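import Cfsg.Agent.Mrg.Omega.OM.Lev.Low.YK
import Cfsg.Agent.Mrg.Omega.OM.Lev.Low.Half
import Cfsg.Agent.Mrg.Omega.NO3S.Level.Claim
import Cfsg.Agent.Mrg.Omega.OM.Lev.Low.BlOf
import Cfsg.Agent.Mrg.Omega.OM.SwapV.Lv.Frame
import Cfsg.Agent.Mrg.Omega.OM.Lev.Low.LowMain
import Cfsg.Agent.Mrg.Omega.OM.Lev.Low.SetU
import Cfsg.Agent.Mrg.Omega.OM.Lev.Low.Two
import Cfsg.Agent.Mrg.Omega.OM.Lev.Low.Full

-- merged: Cfsg.Agent.Mrg.Omega.OM.LowV.SetU
section

section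


/-!
# The instance of `Set5` for the blocks in the support of `z i`, over the frame `LnV`

`Inp S V Q n L W Z C A T Y j K E N c` : the frame `LnV` at the stage `n` (`q = 2`), `B ≤ T`, `Y` of the stage `j ≤ n`
with its blocks. `σ` : a set of blocks which centralise some `Z j'`.

* `Inp.exists_set5` : `Set5` for `P = L i`, `Γ = ⟨L i, K l | l ∈ σ⟩`, `U = ⟨[E l, K l]^Γ⟩`.
-/

set_option autoImplicit false
set_option linter.unusedSectionVars false

namespace Cfsg.Agent.Omega.OM.LowV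

open Subgroup Cfsg Cfsg.Agent.ZN.ChoiceBase Cfsg.Agent.ZN.ChoiceSit
open Cfsg.Agent.ZN (jj zj bau zc zl o2)
open Cfsg.Agent.Omega.LemmaK (Block WeakNormal)
open Cfsg.Agent.Omega.SQ1.Bau (elem_comm elem_sq)
open Cfsg.Agent.Omega.OM.SwapL (ZL)
open Cfsg.Agent.Omega.OM.SwapV.Lv (LnV)
open Cfsg.Agent.Omega.OM.Lev.Low
open Cfsg.Agent.Omega.OM.LevB (lb zc_B nxt_lev isLev_T bz_lev)
open Cfsg.Agent.Omega.NO3S.Level (lev lev_mono lev_isLev Lev BO nxt lev_le_succ lev_le)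
open Cfsg.Agent.Omega.NO3S.Level.Claim (Fm Bl)
open Cfsg.Agent.Omega.OM.Lev.Low.Five (Set5)
open scoped commutatorElement

universe u

variable {G : Type u} [Group G] [Finite G] {ι Λ : Type} {S : Sylow 2 G} {V Q : Subgroup G} {n : ℕ}
  {L W Z C A : ι → Subgroup G} {T Y : Subgroup G} {j : ℕ} {K E N c : Λ → Subgroup G}

/-- The input. -/
structure Inp {ι Λ : Type} (S : Sylow 2 G) (V Q : Subgroup G) (n : ℕ) (L W Z C A : ι → Subgroup G) (T Y : Subgroup G)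
    (j : ℕ) (K E N c : Λ → Subgroup G) : Prop where
  ln : LnV S V Q n L W Z C A
  two : ∀ i : ι, ∃ j, j ≠ i
  syl : Syl T Y
  BT : SwapL.BL (S : Subgroup G) n ≤ T
  jn : j ≤ n
  char2 : Y ⊓ centralizer (o2 Y : Set G) ≤ o2 Y
  low : ∀ i < j, lev (S : Subgroup G) i ≤ o2 Y
  yk : YK T Y (zc (lev (S : Subgroup G) j)) (LevB.BL (S : Subgroup G) j) K E N c

namespace Inp

variable (h : Inp S V Q n L W Z C A T Y j K E N c)
include h

theorem BjB : LevB.BL (S : Subgroup G) j ≤ SwapL.BL (S : Subgroup G) n :=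
  BL_mono (S : Subgroup G) (h.jn.trans (Nat.le_succ n))

theorem BjT : LevB.BL (S : Subgroup G) j ≤ T := h.BjB.trans h.BT

theorem BjL (i : ι) : LevB.BL (S : Subgroup G) j ≤ L i := h.BjB.trans (h.ln.fr.blk i).BL

theorem LQ (i : ι) : L i ≤ normalizer (Q : Set G) := fun l hl => mem_normalizer_of_cj_le (by
  rintro _ ⟨x, hx, rfl⟩
  exact h.ln.fr.LQ i l hl x hx)

theorem levQ {m : ℕ} (hm : m ≤ n) : lev (S : Subgroup G) m ≤ Q := (lev_mono _ hm).trans h.ln.levQ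

theorem LK (i : ι) {m : ℕ} (hm : m ≤ n) : L i ≤ normalizer (lev (S : Subgroup G) m : Set G) :=
  (h.LQ i).trans ((lev_isLev (S : Subgroup G) m).norm _ (h.levQ hm) (h.ln.fr.QB.trans (SwapL.lb S n).BS))

theorem LX (i : ι) : L i ≤ normalizer (zc (lev (S : Subgroup G) j) : Set G) :=
  (h.LK i h.jn).trans (NO3S.Level.normalizer_le_zc _)

theorem QL (i : ι) : Q ≤ L i := h.ln.fr.QB.trans (h.ln.fr.blk i).BL

theorem QT : Q ≤ T := h.ln.fr.QB.trans h.BT

theorem TBj : T ≤ normalizer (LevB.BL (S : Subgroup G) j : Set G) := (lb S j).two_le h.syl.2.1 h.BjT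

theorem elX : IsElementaryAbelian 2 (zc (lev (S : Subgroup G) j)) := NO3S.OneLine.zc_elem _

theorem wn : WeakNormal 2 (LevB.BL (S : Subgroup G) j) := fun _ hR hBR => (lb S j).two_le hR hBR

theorem V_sq (l : Λ) : ∀ v ∈ ⁅E l, K l⁆, v ^ 2 = 1 := fun v hv => by
  obtain ⟨N1, N0, r, hp⟩ := h.yk.pb l
  exact elem_sq hp.el v (hp.VN hv)

theorem V_act (l : Λ) {k x : G} (hk : k ∈ K l) (hx : x ∈ zc (lev (S : Subgroup G) j)) :
    k * x * k⁻¹ * x⁻¹ ∈ ⁅E l, K l⁆ := by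
  obtain ⟨N1, N0, r, hp⟩ := h.yk.pb l
  exact hp.act_V hk (by rw [zc_B]; exact hx)

theorem V_cent (l : Λ) : ⁅E l, K l⁆ ≤ centralizer (zc (lev (S : Subgroup G) j) : Set G) := by
  obtain ⟨N1, N0, r, hp⟩ := h.yk.pb l
  exact (hp.VN.trans hp.NB).trans inf_le_right

/-- the centraliser of `K l` in `X` -/
theorem mem_cK {l : Λ} {x : G} (hx : x ∈ zc (lev (S : Subgroup G) j)) :
    x ∈ N l ↔ x ∈ centralizer (K l : Set G) := by
  rw [h.yk.memN l x hx, mem_centralizer_iff]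
  exact Iff.rfl

/-- **The instance of `Set5`.** -/
theorem exists_set5 (i : ι) {i' : ι} (hi : i' ≠ i) (σ : Λ → Prop) (hσ : ∀ l, σ l → Z i' ≤ N l)
    (htr : ∀ l m : {l // σ l}, ∃ g ∈ L i, cj g ⁅E l, K l⁆ = ⁅E m, K m⁆) :
    ∃ AA, Set5 T (UU (L i ⊔ ⨆ l : {l // σ l}, K l) fun l : {l // σ l} => ⁅E l, K l⁆)
      (L i ⊔ ⨆ l : {l // σ l}, K l) (LevB.BL (S : Subgroup G) j)
      (UU (L i ⊔ ⨆ l : {l // σ l}, K l) (fun l : {l // σ l} => ⁅E l, K l⁆) ⊓ zc (lev (S : Subgroup G) j)) (L i) AA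
      (fun l : {l // σ l} => K l) fun l : {l // σ l} => ⁅E l, K l⁆ := by
  set Γ : Subgroup G := L i ⊔ ⨆ l : {l // σ l}, K l with hΓ
  set V' : {l // σ l} → Subgroup G := fun l => ⁅E l, K l⁆ with hV'
  set U := UU Γ V' with hU
  have hT2 := h.syl.2.1
  have hb := lb S j
  have hle : lev (S : Subgroup G) j ≤ T := hb.KB.trans h.BjT
  have hLΓ : L i ≤ Γ := le_sup_left
  have hKΓ : ∀ l : {l // σ l}, K l ≤ Γ := fun l => (le_iSup (fun l : {l // σ l} => K l) l).trans le_sup_right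
  have hUn : Γ ≤ normalizer (U : Set G) := UU_norm
  -- the common part
  have fin : ∀ AA, IsElementaryAbelian 2 U →
      Fm T U Γ (LevB.BL (S : Subgroup G) j) (U ⊓ zc (lev (S : Subgroup G) j)) AA →
      (∀ A ∈ AA, ∀ g ∈ L i, cj g A ∈ AA) →
      Set5 T U Γ (LevB.BL (S : Subgroup G) j) (U ⊓ zc (lev (S : Subgroup G) j)) (L i) AA
        (fun l : {l // σ l} => K l) V' := by
    intro AA h2 hfm hPA
    refine ⟨hfm, fun l => ?_, h2, h.BjL i, hLΓ.trans hUn, fun g hg => ?_, hPA, htr, fun C hC hPC hKC => ?_⟩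
    · obtain ⟨N1, N0, r, hp⟩ := h.yk.pb l
      exact BlOf.bl_V hp hfm (by rw [zc_B]) (le_UU (V := V') l) (hKΓ l) ((hKΓ l).trans hUn)
    · rw [mem_normalizer_iff_cj, cj_inf, cj_eq_of_mem_normalizer (hUn (hLΓ hg)),
        cj_eq_of_mem_normalizer (h.LX i hg)]
    · exact UU_le hC (sup_le hPC (iSup_le hKC))
  -- stages
  have hj := h.jn
  have hlow := h.low
  have hBjT := h.BjT
  rcases Nat.eq_zero_or_pos j with h0 | hpos
  · -- stage `-1`
    have hjj : jj T = jj (S : Subgroup G) := MinSimple.EmptyTI.jj_eq S hT2 (by rw [h0] at hle; exact hle)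
    have hzz : zc (lev (S : Subgroup G) j) = zj T := by
      rw [h0]
      show zc (jj (S : Subgroup G)) = zj T
      rw [← hjj, zc_jj]
    have hbau : bau T = LevB.BL (S : Subgroup G) j := by
      rw [← hb.inf_eq hT2 hBjT, hzz]
      rfl
    -- the local group
    set H' : Subgroup G := normalizer (Z i' : Set G) with hH'
    have hZ1 : Z i' ≠ ⊥ := by
      intro e
      have h1 := h.ln.fr.cardZ i'
      rw [e, Subgroup.card_bot] at h1
      omega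
    have hZ2 : IsPGroup 2 (Z i') := (lb S (n + 1)).Bp.to_le
      (((h.ln.fr.Z_le i').trans (h.ln.fr.ZJV)).trans (h.ln.fr.VQ.trans h.ln.fr.QB))
    have hcG := h.ln.char2.2 (Z i') hZ2 hZ1
    have hc' : H' ⊓ centralizer (o2 H' : Set G) ≤ o2 H' := by
      rintro x ⟨hx, hxc⟩
      have h2 : (⟨x, hx⟩ : normalizer (Z i' : Set G)) ∈
          centralizer (pCore 2 (normalizer (Z i' : Set G)) : Set (normalizer (Z i' : Set G))) := by
        rw [mem_centralizer_iff]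
        intro y hy
        refine Subtype.ext ?_
        exact mem_centralizer_iff.mp hxc (y : G) ⟨y, hy, rfl⟩
      exact ⟨⟨x, hx⟩, hcG h2, rfl⟩
    have hcl : ∀ Q' : Subgroup G, Q' ≤ centralizer (Z i' : Set G) → Q' ≤ H' := fun Q' hQ' =>
      hQ'.trans (centralizer_le_normalizer _)
    have hZX : Z i' ≤ zc (lev (S : Subgroup G) j) := ((h.ln.fr.Z_le i').trans h.ln.fr.ZJV).trans
      (h.ln.fr.VX.trans ((lev_isLev (S : Subgroup G) j).zc_le_zc (lev_mono _ h.jn) (lev_le _ n)))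
    have hKc : ∀ l : {l // σ l}, K l ≤ H' := fun l => hcl _ fun k hk => mem_centralizer_iff.2 fun z hz =>
      ((h.yk.memN l z (hZX hz)).1 (hσ l l.2 hz) k hk).symm
    have hΓH : Γ ≤ H' := by
      refine sup_le (hcl _ fun l hl => mem_centralizer_iff.2 fun z hz => ?_) (iSup_le hKc)
      exact (h.ln.fr.LC i l hl z (h.ln.fr.Z_le i' hz)
        (h.ln.fr.WjC i i' hi.symm ((h.ln.fr.blk i').ZV hz))).symm
    have hUz : U ≤ zc (o2 H') := UU_le_zc (B₀ := LevB.BL (S : Subgroup G) j) (K := fun l : {l // σ l} => K l)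
      (fun l => by
        obtain ⟨N1, N0, r, hp⟩ := h.yk.pb l
        exact hp.block h.wn) hKc hΓH (isPGroup_o2 H') (le_normalizer_o2 H') hc' fun l => h.V_sq l
    have hU2 : IsElementaryAbelian 2 U :=
      PLocal.OffenderStep.isElementaryAbelian_of_comm
        (fun x hx y hy => (mem_zc.1 (hUz hy)).2.2 x (mem_zc.1 (hUz hx)).1) fun x hx => (mem_zc.1 (hUz hx)).2.1
    have hUX : U ≤ centralizer (zc (lev (S : Subgroup G) j) : Set G) :=
      UU_cent (K := fun l : {l // σ l} => K l) (elem_comm hU2) (fun l => h.V_cent l) (h.LX i) hΓ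
        fun l k hk x hx => h.V_act l hk hx
    have hUB : U ≤ LevB.BL (S : Subgroup G) j := by
      have h1 : IsPGroup 2 (LevB.BL (S : Subgroup G) j ⊔ U : Subgroup G) :=
        IsPGroup.to_sup_of_normal_right' hb.Bp ((isPGroup_o2 H').to_le (hUz.trans (zc_le _)))
          ((h.BjL i).trans (hLΓ.trans hUn))
      have h2 := hb.syl.2.2 (LevB.BL (S : Subgroup G) j ⊔ U) (sup_le hb.Bc hUX) h1 le_sup_left
      rw [← h2]
      exact le_sup_right
    have hUT : U ≤ T := hUB.trans hBjT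
    have hfm := BlOf.fm_neg (S := T) (H := Γ) hU2 (by rw [hbau]; exact hUB) hUn
    rw [hbau, ← hzz] at hfm
    refine ⟨_, fin _ hU2 hfm fun A hA g hg => BlOf.famA_cj hA (hUn (hLΓ hg)) ?_ hUT⟩
    have h3 : A ≤ Q := (BlOf.famA_le hA).trans (by
      rw [hjj]
      exact h.levQ (Nat.zero_le n))
    have h4 := cj_mono g h3
    rw [cj_eq_of_mem_normalizer (h.LQ i hg)] at h4
    exact h4.trans h.QT
  · -- stages `m + 1`
    obtain ⟨m, rfl⟩ := Nat.exists_eq_succ_of_ne_zero hpos.ne'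
    have hleT : lev (S : Subgroup G) (m + 1) ≤ T := hle
    have hL := isLev_T S hT2 ((lev_le_succ _ m).trans hleT)
    have hnx := nxt_lev S hT2 hleT
    have hKo := hlow m (Nat.lt_succ_self m)
    have hYK : Y ≤ normalizer (lev (S : Subgroup G) m : Set G) := hL.le_norm_of_o2 hKo (o2_le_syl h.syl)
    have hΓK : Γ ≤ normalizer (lev (S : Subgroup G) m : Set G) :=
      sup_le (h.LK i ((Nat.le_succ m).trans h.jn)) (iSup_le fun l => (h.yk.KY l).trans hYK)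
    have hVz : zl T Y ≤ zc (lev (S : Subgroup G) m) :=
      (MinSimple.VModule.zl_le_zc h.syl.1 hT2 (syl_not_dvd h.syl) h.char2).trans (hL.zc_o2_le hKo (o2_le_syl h.syl))
    have hUz : U ≤ zc (lev (S : Subgroup G) m) := by
      refine UU_le (fun l => ?_) (hΓK.trans (NO3S.Level.normalizer_le_zc _))
      obtain ⟨N1, N0, r, hp⟩ := h.yk.pb l
      exact hp.VN.trans ((h.yk.EY l).trans hVz)
    have hU2 : IsElementaryAbelian 2 U := PLocal.ThompsonJ.isElementaryAbelian_mono (NO3S.OneLine.zc_elem _) hUz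
    have hfm := BlOf.fm_lev (H := Γ) hL hUz hΓK
    rw [hnx, hb.inf_eq hT2 hBjT] at hfm
    refine ⟨_, fin _ hU2 hfm fun A hA g hg => BO.conj hA (h.LK i ((Nat.le_succ m).trans h.jn) hg) ?_⟩
    have h3 : A ≤ Q := by
      have h4 := BO.le_nxt hA
      rw [hnx] at h4
      exact h4.trans (h.levQ h.jn)
    have h4 := cj_mono g h3
    rw [cj_eq_of_mem_normalizer (h.LQ i hg)] at h4
    exact h4.trans h.QT

end Inp

end Cfsg.Agent.Omega.OM.LowV

end

section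


/-!
# `QV` over the frame `LnV`
-/

set_option autoImplicit false
set_option linter.unusedSectionVars false

namespace Cfsg.Agent.Omega.OM.LowV

open Subgroup Cfsg Cfsg.Agent.ZN.ChoiceBase Cfsg.Agent.ZN.ChoiceSit
open Cfsg.Agent.ZN (jj zj bau zc zl o2)
open Cfsg.Agent.Omega.OM.SwapL (ZL)
open Cfsg.Agent.Omega.OM.SwapV.Lv (LnV)
open Cfsg.Agent.Omega.OM.Lev.Low
open Cfsg.Agent.Omega.NO3S.Level (lev lev_mono lev_isLev Lev lev_le)

universe u

variable {G : Type u} [Group G] [Finite G] {ι : Type} [Finite ι] {S : Sylow 2 G} {V Q : Subgroup G} {n : ℕ}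
  {L W Z C A : ι → Subgroup G}

/-- **`QV`** -/
theorem qv (h : LnV S V Q n L W Z C A) {T : Subgroup G} (hT : IsPGroup 2 T)
    (hB : SwapL.BL (S : Subgroup G) n ≤ T) {j : ℕ} (hj : j ≤ n) :
    YB.QV T (zc (lev (S : Subgroup G) j)) Q V where
  QT := h.fr.QB.trans hB
  TQ := by
    intro t ht
    have h1 := (SwapL.lb S n).two_le hT hB ht
    have h2 := SwapV.Lv.two_norm h hT hB ht
    have e : Q = SwapL.BL (S : Subgroup G) n ⊓ centralizer (V : Set G) := by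
      ext x
      rw [mem_inf, mem_centralizer_iff]
      constructor
      · intro hx
        exact ⟨h.fr.QB hx, fun v hv => ((h.fr.mem_Q x (h.fr.QB hx)).1 hx v hv).symm⟩
      · rintro ⟨hx, hx'⟩
        exact (h.fr.mem_Q x hx).2 fun v hv => (hx' v hv).symm
    rw [mem_normalizer_iff_cj, e, cj_inf, cj_centralizer, cj_eq_of_mem_normalizer h1, cj_eq_of_mem_normalizer h2]
  mem := by
    intro x
    have hVX : V ≤ zc (lev (S : Subgroup G) j) :=
      h.fr.VX.trans ((lev_isLev (S : Subgroup G) j).zc_le_zc (lev_mono _ hj) (lev_le _ n))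
    constructor
    · exact fun hx => ⟨hVX hx, fun q hq => (h.fr.mem_Q q (h.fr.QB hq)).1 hq x hx⟩
    · rintro ⟨hx, hxQ⟩
      have h3 : x ∈ Q := ((lev_mono _ hj).trans h.levQ) (mem_zc.1 hx).1
      exact h.fr.zcQ x h3 (mem_zc.1 hx).2.1 fun y hy => (hxQ y hy).symm
  two := hT

end Cfsg.Agent.Omega.OM.LowV

end

section


/-!
# TEXT LL v2 (helper584 #20624), (4) + (5) + (W), `q = 2`, over the frame `LnV`

`wide` : if `Y` moves `Ω₁Z(T)`, then for every block `K l` of `Y` two elements of `V` have different nontrivial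
components at `l`.
-/

set_option autoImplicit false
set_option linter.unusedSectionVars false

namespace Cfsg.Agent.Omega.OM.LowV

open Subgroup Cfsg Cfsg.Agent.ZN.ChoiceBase Cfsg.Agent.ZN.ChoiceSit
open Cfsg.Agent.ZN (jj zj bau zc zl o2)
open Cfsg.Agent.Omega.SQ1.Bau (elem_comm elem_sq)
open Cfsg.Agent.Omega.OM.SwapL (ZL)
open Cfsg.Agent.Omega.OM.SwapV.Lv (LnV)
open Cfsg.Agent.Omega.OM.Lev.Low
open Cfsg.Agent.Omega.OM.LevB (lb zc_B nxt_lev isLev_T bz_lev)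
open Cfsg.Agent.Omega.NO3S.Level (lev lev_mono lev_isLev Lev BO nxt lev_le_succ lev_le)
open Cfsg.Agent.Omega.OM.Lev.Low.Five (Set5)
open Cfsg.Agent.Omega.OM.Lev.Low.YB
open Cfsg.Agent.Omega.OM.Lev.Low.WDead (tri_of)
open scoped commutatorElement

universe u

variable {G : Type u} [Group G] [Finite G] {ι Λ : Type} {S : Sylow 2 G} {V Q : Subgroup G} {n : ℕ}
  {L W Z C A : ι → Subgroup G} {T Y : Subgroup G} {j : ℕ} {K E N c : Λ → Subgroup G}

namespace Inp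

variable (h : Inp S V Q n L W Z C A T Y j K E N c)
include h

theorem qv [Finite ι] : QV T (zc (lev (S : Subgroup G) j)) (Q) (V) :=
  LowV.qv h.ln h.syl.2.1 h.BT h.jn

/-- `|π_l(V)| ≤ 2` for one `l` implies it for all `l` -/
theorem hf [Finite ι] {l₀ : Λ} (hl : ∀ v ∈ V, ∀ v' ∈ V, v ∉ N l₀ → v' ∉ N l₀ →
    v * v' ∈ N l₀) : Hf T (zc (lev (S : Subgroup G) j)) (Q) (V) N c where
  yb := h.yk.yb
  qv := h.qv
  half := by
    intro l v hv v' hv' hn hn'
    obtain ⟨t, ht, hm⟩ := h.yk.tr l l₀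
    have h1 := hl (t * v * t⁻¹) (QV.memV h.yk.yb h.qv ht hv) (t * v' * t⁻¹) (QV.memV h.yk.yb h.qv ht hv')
      (fun h2 => hn (hm.cen.1 h2)) fun h2 => hn' (hm.cen.1 h2)
    have e : t * v * t⁻¹ * (t * v' * t⁻¹) = t * (v * v') * t⁻¹ := by group
    rw [e] at h1
    exact hm.cen.1 h1

/-- `Ω₁Z(T)` is nontrivial at all `l` -/
theorem zc_all {l : Λ} (hl : ¬ zc T ≤ N l) (m : Λ) : ¬ zc T ≤ N m := by
  intro hm
  obtain ⟨z, hz, hzl⟩ := SetLike.not_le_iff_exists.1 hl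
  obtain ⟨t, ht, hlm⟩ := h.yk.tr l m
  have h1 := (mem_zc.1 hz).2.2 t ht
  have e : t * z * t⁻¹ = z := by rw [h1]; group
  refine hzl (hlm.cen.1 ?_)
  rw [e]
  exact hm hz

/-- **(4), (W)** -/
theorem no_two [Finite ι] [Finite Λ] {l₀ : Λ} (hZ : ¬ zc T ≤ N l₀)
    (hl : ∀ v ∈ V, ∀ v' ∈ V, v ∉ N l₀ → v' ∉ N l₀ → v * v' ∈ N l₀) : False := by
  have k := h.hf hl
  have fr := h.ln.fr
  have hBT := h.BT
  -- `z i`
  obtain ⟨i, hi⟩ : ∃ i, ¬ Z i ≤ N l₀ := by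
    by_contra hcon
    push Not at hcon
    exact hZ ((zc_T_le S h.syl.2.1 hBT).trans (zj_le fr hcon))
  obtain ⟨z, hz, hzl⟩ := SetLike.not_le_iff_exists.1 hi
  have hz1 : z ≠ 1 := fun e => hzl (e ▸ one_mem _)
  obtain ⟨i', hi'⟩ := h.two i
  have hane := fr.Ane i
  push Not at hane
  obtain ⟨b, hb, v₁, hv₁, hne⟩ := hane
  have r := rt fr hBT hb fun h1 => hne (h1 v₁ hv₁)
  obtain ⟨m₀, hm⟩ := k.yb.perm b r.bT l₀
  have hml := k.moves r hm hz hzl
  obtain ⟨y, hy, hyp, hyl⟩ := k.yb.exists_single k.qv l₀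
  have e1 := k.eq_z r (fun z hz z' hz' h1 h2 => UniPlus.eq_of_card_two (fr.cardZ i) hz hz' h1 h2) hm hz hz1 hml hy
    hyp hyl
  have hsupp : ∀ l', z ∉ N l' ↔ l' ∈ Orb (Q) N c l₀ ∨ l' ∈ Orb (Q) N c m₀ := fun l' => by
    rw [e1]; exact k.supp r.bT hm hml hy hyp hyl
  obtain ⟨v, hv, y', hy'Z, hy'C, hyv, hy'N⟩ := k.exists_dec fr hBT hz hzl hy hyp
  -- the blocks in the support centralise `Z i'`
  have hσ : ∀ l, z ∉ N l → Z i' ≤ N l := fun l hl' w hw => by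
    by_contra hw'
    exact k.disj fr hBT (Ne.symm hi') hz hw hl' hw'
  -- `B` is transitive on the support
  have hbB : b ∈ SwapL.BL (S : Subgroup G) n := fr.AB i hb
  have htr0 : ∀ l, z ∉ N l → ∃ g ∈ SwapL.BL (S : Subgroup G) n, Mv N c g l₀ l := by
    intro l hl'
    rcases (hsupp l).1 hl' with ⟨q, hq, h1⟩ | ⟨q, hq, h1⟩
    · exact ⟨q, fr.QB hq, h1⟩
    · exact ⟨q * b, mul_mem (fr.QB hq) hbB, h1.mul hm⟩
  have htr1 : ∀ l m : {l // z ∉ N l}, ∃ g ∈ SwapL.BL (S : Subgroup G) n, Mv N c g (l : Λ) m := by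
    intro l m
    obtain ⟨g, hg, h1⟩ := htr0 l l.2
    obtain ⟨g', hg', h2⟩ := htr0 m m.2
    exact ⟨g' * g⁻¹, mul_mem hg' (inv_mem hg), h2.mul h1.inv⟩
  have hBL : SwapL.BL (S : Subgroup G) n ≤ L i := (fr.blk i).BL
  obtain ⟨AA, X⟩ := h.exists_set5 i hi' (fun l => z ∉ N l) hσ fun l m => by
    obtain ⟨g, hg, h1⟩ := htr1 l m
    exact ⟨g, hBL hg, h.yk.mv g (hBT hg) _ _ h1⟩
  -- the three elements of `W i`
  have hnb := SwapL.nb fr i
  have h4 : Nat.card (W i) = 4 := by rw [(fr.blk i).card, fr.cardZ i]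
  have hbz : b * z = z * b := (fr.blk i).cZ b hbB z hz
  obtain ⟨w, hw2, kt, hall⟩ := tri_of (P := L i) (L := L i) (Vi := W i) h4 (fr.blk i).el
    (fun l hl' => mem_normalizer_of_cj_le (by
      rintro _ ⟨x, hx, rfl⟩
      exact (fr.blk i).nV l hl' x hx)) le_rfl (fun x hx x' hx' hx1 hx1' => by
        obtain ⟨g, hg, s, hs, e⟩ := UniPlus.cover_two hnb hx
        obtain ⟨g', hg', s', hs', e'⟩ := UniPlus.cover_two hnb hx'
        have e2 : g * s * g⁻¹ = x := e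
        have e2' : g' * s' * g'⁻¹ = x' := e'
        have hs1 : s ≠ 1 := fun e3 => hx1 (by rw [← e2, e3]; group)
        have hs1' : s' ≠ 1 := fun e3 => hx1' (by rw [← e2', e3]; group)
        have e4 := UniPlus.eq_of_card_two (fr.cardZ i) hs hs' hs1 hs1'
        refine ⟨g' * g⁻¹, mul_mem hg' (inv_mem hg), ?_⟩
        rw [← e2, ← e2', ← e4]
        group) ((fr.blk i).ZV hz) hz1 (t := b) (hBL hbB) hbz (fun h5 => hne (mem_centralizer_iff.1 h5 v₁ hv₁).symm)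
    (y' := y') (fun g hg => fr.LC i g hg y' hy'Z hy'C) fun u hu => fr.Vc (fr.ZJV hy'Z) (fr.WV i hu)
  have hzX : z ∈ zc (lev (S : Subgroup G) j) := h.qv.VX (fr.ZV i hz)
  have hyX : y' ∈ zc (lev (S : Subgroup G) j) := h.qv.VX (fr.ZJV hy'Z)
  have hwV : ∀ a, w a ∈ V := by
    intro a
    have h5 : ∀ a, ∃ g ∈ L i, g * w 2 * g⁻¹ = w a := fun a => by
      obtain ⟨g, hg, -, h6⟩ := kt.ex (Equiv.swap 2 a)
      exact ⟨g, hg, by rw [h6, Equiv.swap_apply_left]⟩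
    obtain ⟨g, hg, e⟩ := h5 a
    rw [← e, hw2]
    exact fr.LV i g hg z (fr.ZV i hz)
  -- `v`
  have hv1 : v ≠ 1 := by
    rintro rfl
    rw [one_mul] at hyv
    exact hyl (by rw [hyv]; exact hy'N l₀ hzl)
  have hvz : v ≠ z := by
    rintro rfl
    have h5 : b * y = y * b := by
      rw [hyv]
      have c1 : Commute b v := hbz
      have c2 : Commute b y' := ((fr.mem_ZJ y').1 hy'Z).2 b hbB
      exact (c1.mul_right c2).eq
    have h6 : b * y * b⁻¹ = y := by rw [h5]; group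
    rw [h6, k.yb.mul_self (k.qv.VX hy)] at e1
    exact hz1 e1
  have hv01 : v = w 0 ∨ v = w 1 := by
    obtain ⟨a, ha⟩ := hall v hv hv1
    have h5 : ∀ a : Fin 3, a = 0 ∨ a = 1 ∨ a = 2 := by decide
    rcases h5 a with rfl | rfl | rfl
    · exact Or.inl ha
    · exact Or.inr ha
    · exact absurd (ha.trans hw2) hvz
  -- lines
  have hQT := h.QT
  have hline : ∀ p : Set Λ, Cp c p ≤ ⨆ l ∈ p, ⁅(⁅E l, K l⁆ : Subgroup G), LevB.BL (S : Subgroup G) j⁆ := fun p =>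
    iSup₂_mono fun l _ => by
      obtain ⟨N1, N0, r', hp⟩ := h.yk.pb l
      rw [hp.VB_eq]
      exact h.yk.line l
  have hl0' : z ∉ N l₀ := hzl
  refine X.no_two' kt (h.QL i) (h.QT.trans h.TBj) (h.LQ i) (fun q hq a => fr.cQ hq (hwV a)) ?_ ?_ ?_ ?_
    (σ := fun l => (l : Λ) ∈ Orb (Q) N c l₀) ⟨⟨l₀, hzl⟩, self_mem _ _⟩ ?_ ?_ ?_ ?_ hyv hv01 ?_
  · -- `trP`
    intro l m
    obtain ⟨g, hg, h5⟩ := htr1 l m
    exact ⟨g, hBL hg, h.TBj (hBT hg), h.yk.mv g (hBT hg) _ _ h5⟩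
  · -- `cK`
    intro l m hlm x hx
    obtain ⟨N1, N0, r', hp⟩ := h.yk.pb l
    have h5 : x ∈ ⁅E (l : Λ), LevB.BL (S : Subgroup G) j⁆ := by rw [← hp.VB_eq]; exact hx
    have h6 : x ∈ zc (lev (S : Subgroup G) j) := by
      have h7 := (X.c_le l) hx
      exact h7.2
    exact (h.mem_cK h6).1 (h.yk.cross l m (fun e => hlm (Subtype.ext e)) h5)
  · -- `hz`
    rw [hw2]
    have h5 : y ∈ sSup (Set.range fun l : {l // z ∉ N l} =>
        ⁅(⁅E (l : Λ), K (l : Λ)⁆ : Subgroup G), LevB.BL (S : Subgroup G) j⁆) := by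
      refine (iSup₂_le fun l hl' => ?_ : (⨆ l ∈ Orb (Q) N c l₀,
        ⁅(⁅E l, K l⁆ : Subgroup G), LevB.BL (S : Subgroup G) j⁆) ≤ _) (hline _ hyp)
      exact le_sSup ⟨⟨l, (hsupp l).2 (Or.inl hl')⟩, rfl⟩
    have h6 : b * y * b⁻¹ ∈ sSup (Set.range fun l : {l // z ∉ N l} =>
        ⁅(⁅E (l : Λ), K (l : Λ)⁆ : Subgroup G), LevB.BL (S : Subgroup G) j⁆) := by
      refine (iSup₂_le fun l hl' => ?_ : (⨆ l ∈ Orb (Q) N c m₀,
        ⁅(⁅E l, K l⁆ : Subgroup G), LevB.BL (S : Subgroup G) j⁆) ≤ _) (hline _ (k.cj_mem r.bT hm hyp))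
      exact le_sSup ⟨⟨l, (hsupp l).2 (Or.inr hl')⟩, rfl⟩
    have h7 := mul_mem h5 h6
    rwa [← e1] at h7
  · -- `hz'`
    intro l hcon
    rw [hw2] at hcon
    exact l.2 ((h.mem_cK hzX).2 hcon)
  · -- another orbit
    exact ⟨⟨m₀, (hsupp m₀).2 (Or.inr (self_mem _ _))⟩, hml⟩
  · -- `hQ`
    intro q hq l
    obtain ⟨m, hlm⟩ := k.yb.perm q (hQT hq) l
    have h5 : (l : Λ) ∈ Orb (Q) N c l₀ ↔ m ∈ Orb (Q) N c l₀ := orb_inv l₀ q hq l m hlm
    have h6 : (l : Λ) ∈ Orb (Q) N c m₀ ↔ m ∈ Orb (Q) N c m₀ := orb_inv m₀ q hq l m hlm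
    refine ⟨⟨m, (hsupp m).2 ?_⟩, h5, h.yk.mv q (hQT hq) _ _ hlm⟩
    rcases (hsupp l).1 l.2 with h7 | h7
    · exact Or.inl (h5.1 h7)
    · exact Or.inr (h6.1 h7)
  · -- `hQ'`
    intro l m hlm
    have h5 : (m : Λ) ∈ Orb (Q) N c l := by
      by_cases h6 : (l : Λ) ∈ Orb (Q) N c l₀
      · exact orb_trans (orb_symm h6) (hlm.1 h6)
      · have h7 := ((hsupp l).1 l.2).resolve_left h6
        have h8 := ((hsupp m).1 m.2).resolve_left fun h9 => h6 (hlm.2 h9)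
        exact orb_trans (orb_symm h7) h8
    obtain ⟨q, hq, h6⟩ := h5
    exact ⟨q, hq, h.yk.mv q (hQT hq) _ _ h6⟩
  · -- `hy`
    refine (iSup₂_le fun l hl' => ?_ : (⨆ l ∈ Orb (Q) N c l₀,
      ⁅(⁅E l, K l⁆ : Subgroup G), LevB.BL (S : Subgroup G) j⁆) ≤ _) (hline _ hyp)
    exact le_sSup ⟨⟨l, (hsupp l).2 (Or.inl hl')⟩, hl', rfl⟩
  · -- `hy'`
    intro l
    exact (h.mem_cK hyX).1 (hy'N l l.2)

/-- **Two elements of `V` with different nontrivial components at `l`.** -/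
theorem wide [Finite ι] [Finite Λ] (hZ : ∃ l, ¬ zc T ≤ N l) (l : Λ) :
    ∃ v ∈ V, ∃ a ∈ c l, a * v ∈ N l ∧ a ≠ 1 ∧
      ∃ v' ∈ V, ∃ a' ∈ c l, a' * v' ∈ N l ∧ a' ≠ 1 ∧ a ≠ a' := by
  by_contra hcon
  push Not at hcon
  obtain ⟨l₁, hl₁⟩ := hZ
  refine h.no_two (h.zc_all hl₁ l) fun v hv v' hv' hn hn' => ?_
  obtain ⟨a, ha, h1⟩ := h.yk.yb.fix l v (h.qv.VX hv)
  obtain ⟨a', ha', h1'⟩ := h.yk.yb.fix l v' (h.qv.VX hv')
  have ha1 : a ≠ 1 := fun e => hn (by rwa [e, one_mul] at h1)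
  have ha1' : a' ≠ 1 := fun e => hn' (by rwa [e, one_mul] at h1')
  have h2 := hcon v hv a ha h1 ha1 v' hv' a' ha' h1' ha1'
  subst h2
  have h3 := mul_mem (inv_mem h1) h1'
  have e : (a * v)⁻¹ * (a * v') = v⁻¹ * v' := by group
  rw [e, h.yk.yb.inv_eq (h.qv.VX hv)] at h3
  exact h3

end Inp

end Cfsg.Agent.Omega.OM.LowV

end

end

-- merged: Cfsg.Agent.Mrg.Omega.OM.LowV.Out
section

/-!
# The instance of `YK`, `q = 2`, over the frame `LnV`

* `exists_out` : **if `lev S n ≰ O₂(Y)` and `Y` moves `Ω₁Z(T)`, then `Y` is of natural type over `F`, `|F| > 2`, and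
  for every block two elements of `V` have different nontrivial components.**
-/

set_option autoImplicit false
set_option linter.unusedSectionVars false

namespace Cfsg.Agent.Omega.OM.LowV

open Subgroup Cfsg Cfsg.Agent.ZN.ChoiceBase Cfsg.Agent.ZN.ChoiceSit
open Cfsg.Agent.ZN (jj zj bau zc zl o2)
open Cfsg.Agent.MinSimple.MinParabolic (IsMinPar)
open Cfsg.Agent.Omega.NO3S.OneLine (NatC natC_of)
open Cfsg.Agent.Omega.OM.Lev.Nat (Wn mem_Wn)
open Cfsg.Agent.Omega.OM.GLev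
open Cfsg.Agent.Omega.FFThm (NatKM SymKM)
open Cfsg.Agent.Omega.FrameFF (cv)
open Cfsg.Agent.Omega.OM.SwapL (ZL)
open Cfsg.Agent.Omega.OM.SwapV.Lv (LnV)
open Cfsg.Agent.Omega.OM.Lev.Low
open Cfsg.Agent.Omega.NO3S.Level (lev lev_mono lev_isLev Lev lev_le)
open scoped commutatorElement

universe u

variable {G : Type u} [Group G] [Finite G]

/-- **The output of (4), (5), (W).** -/
structure OutN {ι : Type} (S : Sylow 2 G) (V Q : Subgroup G) (n : ℕ) (L W Z C A : ι → Subgroup G) (T Y : Subgroup G)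
    (j : ℕ) {F : Type} [Field F] {k : ℕ} (M : NatC F T Y (zl T Y) (cv T Y) k) (K Nn c : Fin k → Subgroup G) :
    Prop where
  inp : Inp S V Q n L W Z C A T Y j K (fun i => Wn M i) Nn c
  nb : NB' M (LevB.BL (S : Subgroup G) j) (zc (lev (S : Subgroup G) j)) K c
  zT : ∀ l, ¬ zc T ≤ Nn l
  wide : ∀ l, ∃ v ∈ V, ∃ a ∈ c l, a * v ∈ Nn l ∧ a ≠ 1 ∧
      ∃ v' ∈ V, ∃ a' ∈ c l, a' * v' ∈ Nn l ∧ a' ≠ 1 ∧ a ≠ a'

/-- **The output of (4), (5), (W), `q = 2`.** -/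
theorem exists_out {ι : Type} [Finite ι] {S : Sylow 2 G} {V Q : Subgroup G} {n : ℕ} {L W Z C A : ι → Subgroup G}
    (h : LnV S V Q n L W Z C A) (two : ∀ i : ι, ∃ j, j ≠ i) {T Y : Subgroup G} (hT : Syl T Y) (hB : SwapL.BL (S : Subgroup G) n ≤ T)
    (hP : IsMinPar T Y) (hc : Y ⊓ centralizer (o2 Y : Set G) ≤ o2 Y) (hZ : ¬ Y ≤ centralizer (zc T : Set G)) {j : ℕ}
    (hj : j ≤ n) (hlow : ∀ i < j, lev (S : Subgroup G) i ≤ o2 Y) (hnj : ¬ lev (S : Subgroup G) j ≤ o2 Y) :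
    ∃ (X : Subgroup G) (AA' : Set (Subgroup G)) (hge : GE T Y X AA')
      (_ : BZ T X AA' (LevB.BL (S : Subgroup G) j) (zc (lev (S : Subgroup G) j))) (_ : ∃ A ∈ AA', ¬ A ≤ o2 Y)
      (F : Type) (_ : Field F) (_ : Finite F) (_ : CharP F 2) (k : ℕ) (hk : 0 < k)
      (N : NatKM F T Y (zl T Y) (cv T Y) k) (K Nn c : Fin k → Subgroup G),
      OutN S V Q n L W Z C A T Y j (natC_of hge.hm hk N.toNatK) K Nn c := by
  have hBj : LevB.BL (S : Subgroup G) j ≤ T := (BL_mono (S : Subgroup G) (by omega : j ≤ n + 1)).trans hB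
  obtain ⟨X, AA', hge, hbz, hex, hcon⟩ := exists_ge S hT hBj hP hc hlow hnj hZ
  have hzT : ∀ {Λ : Type} {K E Nn c : Λ → Subgroup G},
      YK T Y (zc (lev (S : Subgroup G) j)) (LevB.BL (S : Subgroup G) j) K E Nn c → ∀ l, ¬ zc T ≤ Nn l := by
    intro Λ K E Nn c hyk l hle
    refine hZ ((hyk.sup l).trans (sup_le (NO3S.Level.le_centralizer_zc T) fun x hx => mem_centralizer_iff.2
      fun z hz => ?_))
    have hzX : z ∈ zc (lev (S : Subgroup G) j) :=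
      (isLev_le hT.2.1 hBj hz : z ∈ zc (lev (S : Subgroup G) j))
    exact ((hyk.memN l z hzX).1 (hle hz) x hx).symm
  rcases hcon with ⟨F, hF1, hF2, hF3, k, hk, ⟨N⟩⟩ | ⟨k, m, hk, hm, ⟨N⟩⟩
  · obtain ⟨K, Nn, c, hyk, hnb⟩ := yk_nat hge hbz N hk hex
    have hin : Inp S V Q n L W Z C A T Y j K (fun i => Wn (natC_of hge.hm hk N.toNatK) i) Nn c :=
      ⟨h, two, hT, hB, hj, hc, hlow, hyk⟩
    have hz := hzT hyk
    exact ⟨X, AA', hge, hbz, hex, F, hF1, hF2, hF3, k, hk, N, K, Nn, c, hin, hnb, hz, hin.wide ⟨⟨0, hk⟩, hz _⟩⟩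
  · exfalso
    obtain ⟨ι', hf, ⟨i⟩, W', K, d, hyk, hpb, hd2⟩ := yk_sym hge hbz N hk (by omega) hex
    have hin : Inp S V Q n L W Z C A T Y j K W' (fun i => centralizer (K i : Set G)) (fun i => zpowers (d i)) :=
      ⟨h, two, hT, hB, hj, hc, hlow, hyk⟩
    obtain ⟨v, -, a, ha, -, ha1, v', -, a', ha', -, ha1', hne⟩ := hin.wide ⟨i, hzT hyk i⟩ i
    have h1 : ∀ x ∈ zpowers (d i), x ≠ 1 → x = d i := by
      intro x hx hx1
      obtain ⟨r, rfl⟩ := mem_zpowers_iff.1 hx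
      rcases Int.even_or_odd r with ⟨s, rfl⟩ | ⟨s, rfl⟩
      · exfalso
        apply hx1
        rw [← two_mul, zpow_mul, zpow_ofNat, pow_two, hd2, one_zpow]
      · rw [zpow_add, zpow_mul, zpow_ofNat, pow_two, hd2, one_zpow, one_mul, zpow_one]
    exact hne ((h1 a ha ha1).trans (h1 a' ha' ha1').symm)
where
  isLev_le {S : Sylow 2 G} {T : Subgroup G} {j : ℕ} (hT : IsPGroup 2 T) (hB : LevB.BL (S : Subgroup G) j ≤ T) :
      zc T ≤ zc (lev (S : Subgroup G) j) :=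
    (LevB.isLev_T S hT ((LevB.lb S j).KB.trans hB)).zc_le

end Cfsg.Agent.Omega.OM.LowV

end

-- merged: Cfsg.Agent.Mrg.Omega.OM.LowV.LinV
section

/-!
# TORUS, `q = 2` (helper109 #23071), (B), over the frame `LnV`: `|c l| = 4`, `Q` fixes all `l`, `c l ≤ V`

* `exists_level` : the first level with a best offender which does not centralise all `c l`;
* `lin_V` : **(B)**.
-/

set_option autoImplicit false
set_option linter.unusedSectionVars false

namespace Cfsg.Agent.Omega.OM.LowV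

open Subgroup Cfsg Cfsg.Agent.ZN.ChoiceBase Cfsg.Agent.ZN.ChoiceSit
open Cfsg.Agent.ZN (jj zj bau zc zl o2)
open Cfsg.Agent.Omega.NO3S.OneLine (BFam bo bo_fam)
open Cfsg.Agent.Omega.FFThm (ElemM)
open Cfsg.Agent.Omega.NO1.BestOff (Best)
open Cfsg.Agent.Omega.OM.SwapL (ZL)
open Cfsg.Agent.Omega.OM.SwapV.Lv (LnV)
open Cfsg.Agent.Omega.OM.Lev.Low
open Cfsg.Agent.Omega.NO3S.Level (lev lev_mono lev_isLev Lev BO nxt lev_le_succ lev_le normalizer_le_zc)

universe u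

variable {G : Type u} [Group G] {Λ : Type*}

/-! ### The levels -/

section line

variable [Finite G] {ι : Type} [Finite ι] [Finite Λ] {S : Sylow 2 G} {V Q : Subgroup G} {n : ℕ}
  {L W Z C A : ι → Subgroup G} {T : Subgroup G} {N c : Λ → Subgroup G}

/-- **the first level with a best offender which does not centralise all `c l`** -/
theorem exists_level (h : LnV S V Q n L W Z C A) (hT : IsPGroup 2 T) (hB : SwapL.BL (S : Subgroup G) n ≤ T) {j : ℕ}
    (hj : j ≤ n) (hy : YB T (zc (lev (S : Subgroup G) j)) N c) (hZ : ∃ l, ¬ zc T ≤ N l) :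
    ∃ m, j ≤ m ∧ m ≤ n ∧ (∀ l, c l ≤ zc (lev (S : Subgroup G) m)) ∧
      ∃ D ∈ BO (S : Subgroup G) (lev (S : Subgroup G) m), ∃ l, ¬ Cen D (c l) := by
  classical
  have hne : ∃ m, j ≤ m ∧ m ≤ n ∧ ∃ D ∈ BO (S : Subgroup G) (lev (S : Subgroup G) m), ∃ l, ¬ Cen D (c l) := by
    by_contra hcon
    push Not at hcon
    obtain ⟨l, hl⟩ := hZ
    refine hl ((zc_T_le S hT hB).trans (zj_le h.fr fun i z hz => ?_))
    -- an element of `A i` which moves `W i`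
    have hane := h.fr.Ane i
    push Not at hane
    obtain ⟨b, hb, v, hv, hbv⟩ := hane
    have r := rt h.fr hB hb fun h1 => hbv (h1 v hv)
    obtain ⟨w, hw, rfl⟩ := r.all z hz
    have hAi : A i ∈ BO (S : Subgroup G) (lev (S : Subgroup G) n) :=
      ⟨(h.fr.AB i).trans (SwapL.lb S n).BS, ⟨h.fr.AX i, fun E h1 h2 => h.fr.best i E h2 h1⟩⟩
    have hcen := hcon n hj le_rfl (A i) hAi l
    have hbT : b ∈ T := hB (h.fr.AB i hb)
    have hbl : Mv N c b l l := hy.mv_of_cen hbT (hcen b hb)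
    have hwX : w ∈ zc (lev (S : Subgroup G) j) := (qv h hT hB hj).VX hw
    obtain ⟨y, hy', hyw⟩ := hy.fix l w hwX
    have e0 : w = y * (y * w) := by rw [← mul_assoc, hy.mul_self (hy.cX l hy'), one_mul]
    have hy1 : b * y * b⁻¹ = y := by rw [hcen b hb y hy']; group
    have hn' : b * (y * w) * b⁻¹ ∈ N l := hbl.cen.2 hyw
    have h5 := hy.cm (mul_mem (hy.cX l hy') hwX) (hy.cX l hy')
    have e1 : w * (b * w * b⁻¹) = (y * w) * (b * (y * w) * b⁻¹) := by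
      calc w * (b * w * b⁻¹) = y * (y * w) * (b * (y * (y * w)) * b⁻¹) := by rw [← e0]
        _ = y * (y * w) * ((b * y * b⁻¹) * (b * (y * w) * b⁻¹)) := by group
        _ = y * ((y * w) * y) * (b * (y * w) * b⁻¹) := by rw [hy1]; group
        _ = (y * y) * (y * w) * (b * (y * w) * b⁻¹) := by rw [h5]; group
        _ = _ := by rw [hy.mul_self (hy.cX l hy'), one_mul]
    rw [e1]
    exact mul_mem hyw hn'
  have hspec := Nat.find_spec hne
  have hmin : ∀ m', j ≤ m' → m' < Nat.find hne → ∀ D ∈ BO (S : Subgroup G) (lev (S : Subgroup G) m'), ∀ l,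
      Cen D (c l) := by
    intro m' h1 h2 D hD l
    by_contra hcon
    exact Nat.find_min hne h2 ⟨h1, (h2.le.trans hspec.2.1), D, hD, l, hcon⟩
  refine ⟨Nat.find hne, hspec.1, hspec.2.1, ?_, hspec.2.2⟩
  have key : ∀ m', j ≤ m' → m' ≤ Nat.find hne → ∀ l, c l ≤ zc (lev (S : Subgroup G) m') := by
    intro m' h1
    induction m', h1 using Nat.le_induction with
    | base => exact fun _ l => hy.cX l
    | succ m' h1 ih =>
      intro h2 l x hx
      have h3 := ih (by omega) l hx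
      have hx' := mem_zc.1 h3
      refine (lev_isLev (S : Subgroup G) (m' + 1)).mem_of_comm (lev_le _ _ hx'.1) hx'.2.1 ?_
      have h4 : lev (S : Subgroup G) (m' + 1) ≤ centralizer ({x} : Set G) := by
        show nxt (S : Subgroup G) (lev (S : Subgroup G) m') ≤ _
        refine sup_le (fun s hs => ?_) (sSup_le fun D hD d hd => ?_)
        · rw [mem_centralizer_singleton_iff]
          exact (mem_centralizer_iff.1 hs.2 x h3).symm
        · rw [mem_centralizer_singleton_iff]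
          exact hmin m' h1 (by omega) D hD l d hd x hx
      exact fun y hy => mem_centralizer_singleton_iff.1 (h4 hy)
  exact key _ hspec.1 le_rfl

/-- **(B)** -/
theorem lin_V (h : LnV S V Q n L W Z C A) (hT : IsPGroup 2 T) (hB : SwapL.BL (S : Subgroup G) n ≤ T) {j : ℕ}
    (hj : j ≤ n) (hy : YB T (zc (lev (S : Subgroup G) j)) N c) (htr : ∀ l m, ∃ t ∈ T, Mv N c t l m)
    (hs : YB.Sub T N c) (hZ : ∃ l, ¬ zc T ≤ N l) (hw : ∀ l, YB.Wide (V) N c l) (l : Λ) :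
    (∀ q ∈ Q, Mv N c q l l) ∧ Nat.card (c l) = 4 ∧ c l ≤ V := by
  obtain ⟨m, hjm, hmn, hcm, D, hD, l₀, hl₀⟩ := exists_level h hT hB hj hy hZ
  have hle : zc (lev (S : Subgroup G) m) ≤ zc (lev (S : Subgroup G) j) :=
    (lev_isLev (S : Subgroup G) j).zc_le_zc (lev_mono _ hjm) (lev_le _ m)
  have hym : YB T (zc (lev (S : Subgroup G) m)) N c := hy.mono_X hle (two_norm_zc hT hB (by omega)) hcm
  have hqm := qv h hT hB hmn
  have hDT : D ≤ T := (BO_le_B hmn hD).trans hB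
  obtain ⟨h1, h2, h3⟩ := hym.lin hs (bo_fam T (zc (lev (S : Subgroup G) m))) hqm (hw l₀) ⟨D, BO_bo hD hDT, hl₀⟩
  obtain ⟨t, ht, htm⟩ := htr l₀ l
  refine ⟨fun q hq => ?_, ?_, ?_⟩
  · have h4 : t⁻¹ * q * t ∈ Q := by
      have := (mem_normalizer_iff.1 (inv_mem (hqm.TQ ht)) q).1 hq
      rwa [inv_inv] at this
    have h5 := (htm.mul (h1 _ h4)).mul htm.inv
    have e : t * (t⁻¹ * q * t) * t⁻¹ = q := by group
    rwa [e] at h5
  · rw [← htm.2, card_cj, h2]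
  · rw [← htm.2]
    rintro _ ⟨x, hx, rfl⟩
    exact YB.QV.memV hym hqm ht (h3 hx)

end line

end Cfsg.Agent.Omega.OM.LowV

end

-- merged: Cfsg.Agent.Mrg.Omega.OM.LowV.Line
section

section


/-!
# TORUS, `q = 2`: (L) and (W) over the frame `LnV`

* `full_one` : (W) for one conjugation with `L l`;
* `lineZ` : `c = W l` and `Z m ≤ N`, `m ≠ l`, over `FrL` (no `Tr`);
* `full_norm`, `cent`, `full_of_conj` : **(W)** over `LnV`;
* `lineZ_yb`, `line_yb` : (L) for a fixed line.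
-/

set_option autoImplicit false
set_option linter.unusedSectionVars false
set_option linter.unusedVariables false

namespace Cfsg.Agent.Omega.OM.LowV

open Subgroup Cfsg Cfsg.Agent.ZN.ChoiceBase Cfsg.Agent.ZN.ChoiceSit
open Cfsg.Agent.ZN (jj zj bau zc zl o2)
open Cfsg.Agent.Omega.OM.Lev.Uni (FrL)
open Cfsg.Agent.Omega.OM.SwapL (ZL BL)
open Cfsg.Agent.Omega.OM.SwapV.Lv (LnV)
open Cfsg.Agent.Omega.OM.Lev.Low
open Cfsg.Agent.Omega.OM.Lev.Low.Line
open Cfsg.Agent.Omega.NO3S.Level (lev)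

universe u

section base

variable {G : Type u} [Group G] {ι : Type} {B Q V X ZJ : Subgroup G} {L W Z C A : ι → Subgroup G}
  (h : FrL B Q V X ZJ L W Z C A 2)
include h

/-- (W) for an element `w d`, `w ∈ W l`, `d ∈ Z_J ∩ C l` -/
theorem full_one [Finite G] (hW : ∀ z ∈ ZJ, ∀ g : G, g * z * g⁻¹ ∈ ZJ → Full C z → Full C (g * z * g⁻¹)) {z0 g w d : G} {l : ι}
    (hz0 : z0 ∈ ZJ) (hf : Full C z0) (hw : w ∈ W l) (hd : d ∈ ZJ) (hdC : d ∈ C l) (e : g * z0 * g⁻¹ = w * d) :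
    Full C (g * z0 * g⁻¹) := by
  by_cases hw1 : w = 1
  · refine hW z0 hz0 g ?_ hf
    rw [e, hw1, one_mul]
    exact hd
  · have hnb := SwapL.nb h l
    obtain ⟨x, hx, s, hs, e1⟩ := UniPlus.cover_two hnb hw
    have e2 : x * s * x⁻¹ = w := e1
    have hs1 : s ≠ 1 := by
      rintro rfl
      apply hw1
      rw [← e2]
      simp
    have hxd : x * d = d * x := h.LC l x hx d hd hdC
    have e3 : (x⁻¹ * g) * z0 * (x⁻¹ * g)⁻¹ = s * d := by
      calc (x⁻¹ * g) * z0 * (x⁻¹ * g)⁻¹ = x⁻¹ * (g * z0 * g⁻¹) * x := by group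
        _ = x⁻¹ * (x * s * x⁻¹ * d) * x := by rw [e, e2]
        _ = s * x⁻¹ * (d * x) := by group
        _ = s * d := by rw [← hxd]; group
    have hf1 := hW z0 hz0 (x⁻¹ * g) (by rw [e3]; exact mul_mem (h.Z_le l hs) hd) hf
    rw [e3] at hf1
    intro i hi
    rw [e] at hi
    by_cases hil : i = l
    · subst hil
      exact hw1 (one_of h hw ((mul_mem_cancel_right hdC).1 hi))
    · rw [mul_mem_C h hil hw] at hi
      exact hf1 i (by rw [mul_mem_C h hil (ZW h l hs)]; exact hi)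

/-- **(L)** without `Tr` -/
theorem lineZ [Finite G] [Finite ι]
    (hW : ∀ z ∈ ZJ, ∀ g : G, g * z * g⁻¹ ∈ ZJ → Full C z → Full C (g * z * g⁻¹))
    {c N : Subgroup G} (hcV : c ≤ V) (hc4 : Nat.card c = 4) (hfix : ∀ x ∈ X, ∃ a ∈ c, a * x ∈ N)
    (htriv : c ⊓ N = ⊥) (hBc : ∀ b ∈ B, ∀ x ∈ c, b * x * b⁻¹ ∈ c) (hBN : ∀ b ∈ B, ∀ x ∈ N, b * x * b⁻¹ ∈ N)
    (hZJ : ¬ ZJ ≤ N) {τ : G} (hτc : ∀ x ∈ c, τ * x * τ⁻¹ ∈ c) (hτ1 : ∀ x ∈ c, τ * x * τ⁻¹ = x → x = 1)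
    (hτN : ∀ x ∈ N, τ * x * τ⁻¹ = x) :
    ∃ l, c = W l ∧ ∀ m, m ≠ l → Z m ≤ N := by
  classical
  -- a root element which centralises `c` has its `Z i` in `N`
  have key1 : ∀ i, (∀ t ∈ A i, ∀ x ∈ c, t * x = x * t) → Z i ≤ N := by
    intro i hi z hz
    have hne := h.Ane i
    push Not at hne
    obtain ⟨t, ht, w0, hw0, hne⟩ := hne
    obtain ⟨w, hw, e⟩ := exists_comm h (h.AB i ht) (fun hh => hne (hh w0 hw0)) hz
    have hwV : w ∈ V := h.WV i hw
    obtain ⟨a, ha, haN⟩ := hfix w (h.VX hwV)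
    have haV := hcV ha
    have h1 := hBN t (h.AB i ht) _ haN
    have h2 := mul_mem haN h1
    have hta : t * a * t⁻¹ = a := mul_inv_eq_iff_eq_mul.2 (hi t ht a ha)
    have htw : t * w * t⁻¹ ∈ V := h.LV i t ((h.blk i).BL (h.AB i ht)) w hwV
    have e1 : a * w * (t * (a * w) * t⁻¹) = w * (t * w * t⁻¹) := by
      have e2 : t * (a * w) * t⁻¹ = a * (t * w * t⁻¹) := by
        calc t * (a * w) * t⁻¹ = (t * a * t⁻¹) * (t * w * t⁻¹) := by group
          _ = _ := by rw [hta]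
      rw [e2]
      calc a * w * (a * (t * w * t⁻¹)) = a * (w * a) * (t * w * t⁻¹) := by group
        _ = (a * a) * w * (t * w * t⁻¹) := by rw [mc h hwV haV]; group
        _ = _ := by rw [mi h haV, one_mul]
    rwa [e1, e] at h2
  -- (1)
  obtain ⟨l, t, ht, x0, hx0, hne⟩ : ∃ l, ∃ t ∈ A l, ∃ x ∈ c, t * x ≠ x * t := by
    by_contra hcon
    push Not at hcon
    exact hZJ (zj_le h fun i => key1 i fun t ht x hx => hcon i t ht x hx)
  -- (2)
  have hxV := hcV hx0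
  have h1 : t * x0 * t⁻¹ * x0⁻¹ ∈ Z l := h.A_comm ht hxV
  have h2 : t * x0 * t⁻¹ * x0⁻¹ ∈ c := mul_mem (hBc t (h.AB l ht) x0 hx0) (inv_mem hx0)
  have h3 : t * x0 * t⁻¹ * x0⁻¹ ≠ 1 := fun e => hne (mul_inv_eq_iff_eq_mul.1 (mul_inv_eq_one.1 e))
  have hZc : Z l ≤ c := by
    intro z hz
    by_cases hz1 : z = 1
    · rw [hz1]; exact one_mem _
    · rw [Z_two h hz hz1 h1 h3]; exact h2
  obtain ⟨zl, hzl, hzl1⟩ := exists_z h l
  -- (3)
  have hidx : ((Z l).subgroupOf c).index = 2 := by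
    have e1 := Subgroup.card_mul_index ((Z l).subgroupOf c)
    have e2 : Nat.card ((Z l).subgroupOf c) = 2 := by
      rw [Nat.card_congr (subgroupOfEquivOfLe hZc).toEquiv, h.cardZ l]
    rw [e2, hc4] at e1
    omega
  have h4 : ∀ b ∈ B, ∀ x ∈ c, b * x * b⁻¹ * x⁻¹ ∈ Z l := by
    intro b hb x hx
    have hbx := hBc b hb x hx
    by_cases hxZ : x ∈ Z l
    · rw [(h.blk l).cZ b hb x hxZ]
      simp [one_mem]
    · have hbxZ : b * x * b⁻¹ ∉ Z l := by
        intro h5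
        apply hxZ
        have h6 := (h.blk l).cZ b hb _ h5
        have e : x = b * x * b⁻¹ := by
          have h7 : b * x = b * (b * x * b⁻¹) := by rw [h6]; group
          exact mul_left_cancel h7
        rw [e]; exact h5
      have h5 := Subgroup.mul_mem_iff_of_index_two hidx (a := ⟨b * x * b⁻¹, hbx⟩) (b := ⟨x, hx⟩⁻¹)
      have h6 : ((⟨b * x * b⁻¹, hbx⟩ * ⟨x, hx⟩⁻¹ : c) : G) = b * x * b⁻¹ * x⁻¹ := rfl
      rw [mem_subgroupOf, mem_subgroupOf, mem_subgroupOf, h6] at h5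
      refine h5.2 (iff_of_false hbxZ ?_)
      intro h7
      exact hxZ (by simpa using h7)
  -- (4)
  have h5 : ∀ x ∈ c, ∃ w ∈ W l, ∃ b ∈ C l, b ∈ ZJ ∧ x = w * b := by
    intro x hx
    obtain ⟨w, hw, b', hb', rfl⟩ := h.WC l x (hcV hx)
    refine ⟨w, hw, b', hb', (h.mem_ZJ b').2 ⟨h.CV l hb', fun b hb => ?_⟩, rfl⟩
    have h6 := h4 b hb _ hx
    have h7 := (h.blk l).BV hb hw
    have h8 := h.BC l b hb b' hb'
    have e : b * (w * b') * b⁻¹ * (w * b')⁻¹ = (b * w * b⁻¹ * w⁻¹) * (b * b' * b⁻¹ * b'⁻¹) := by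
      have c1 := mc h (h.WV l hw) (h.CV l (mul_mem h8 (inv_mem hb')))
      calc b * (w * b') * b⁻¹ * (w * b')⁻¹ = (b * w * b⁻¹) * ((b * b' * b⁻¹ * b'⁻¹) * w⁻¹) := by group
        _ = (b * w * b⁻¹) * (w⁻¹ * (b * b' * b⁻¹ * b'⁻¹)) := by
          rw [mc h (h.CV l (mul_mem h8 (inv_mem hb'))) (inv_mem (h.WV l hw))]
        _ = _ := by group
    rw [e] at h6
    have h9 : b * b' * b⁻¹ * b'⁻¹ ∈ W l :=
      (mul_mem_cancel_left (mul_mem h7 (inv_mem hw))).1 (ZW h l h6)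
    have h10 := one_of h h9 (mul_mem h8 (inv_mem hb'))
    exact mul_inv_eq_iff_eq_mul.1 (mul_inv_eq_one.1 h10)
  -- (5)
  have h6 : ∀ m, m ≠ l → Z m ≤ N := by
    intro m hm
    refine key1 m fun s hs x hx => ?_
    obtain ⟨w, hw, b, hb, hbZ, rfl⟩ := h5 x hx
    have c1 : Commute s w := h.AC m s hs w (h.WjC m l hm hw)
    have c2 : Commute s b := ((h.mem_ZJ b).1 hbZ).2 s (h.AB m hs)
    exact (c1.mul_right c2).eq
  -- (6)
  obtain ⟨z0, hz0, hz0f⟩ := exists_full h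
  obtain ⟨y, hy, c0, hc0, hc0Z, ez0⟩ := h.split_ZJ l hz0
  have hy1 : y ≠ 1 := by
    rintro rfl
    apply hz0f l
    rw [ez0, one_mul]
    exact hc0
  have hc0N : c0 ∈ N := ZJ_C_le h h6 hc0Z hc0
  have hc0f : ∀ i, i ≠ l → c0 ∉ C i := fun i hi h7 => hz0f i (by
    rw [ez0, mul_mem_C h hi (ZW h l hy)]; exact h7)
  have hyc : y ∈ c := hZc hy
  have hx := hτc y hyc
  obtain ⟨w, hw, b', hb', hb'Z, ex⟩ := h5 _ hx
  have hτz : τ * z0 * τ⁻¹ = w * (b' * c0) := by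
    rw [ez0]
    calc τ * (y * c0) * τ⁻¹ = (τ * y * τ⁻¹) * (τ * c0 * τ⁻¹) := by group
      _ = w * b' * c0 := by rw [ex, hτN c0 hc0N]
      _ = _ := by group
  have hf1 := full_one h hW hz0 hz0f hw (mul_mem hb'Z hc0Z) (mul_mem hb' hc0) hτz
  have hb'1 : b' = 1 := by
    refine h.C0 b' (h.CV l hb') fun i => ?_
    by_cases hi : i = l
    · rw [hi]; exact hb'
    · by_contra hbi
      have h7 : b' * c0 ∉ C i := fun h8 => hf1 i (by
        rw [hτz, mul_mem_C h hi hw]; exact h8)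
      obtain ⟨a1, ha1, d1, hd1, e1⟩ := ZJ_cmp h hb'Z i
      obtain ⟨a2, ha2, d2, hd2, e2⟩ := ZJ_cmp h hc0Z i
      have ha1' : a1 ≠ 1 := by
        rintro rfl
        exact hbi (by rw [e1, one_mul]; exact hd1)
      have ha2' : a2 ≠ 1 := by
        rintro rfl
        exact hc0f i hi (by rw [e2, one_mul]; exact hd2)
      have e3 := Z_two h ha1 ha1' ha2 ha2'
      apply h7
      rw [e1, e2, ← e3]
      have e4 : a1 * d1 * (a1 * d2) = (a1 * a1) * (d1 * d2) := by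
        calc a1 * d1 * (a1 * d2) = a1 * (d1 * a1) * d2 := by group
          _ = a1 * (a1 * d1) * d2 := by rw [mc h (h.CV i hd1) (h.ZV i ha1)]
          _ = _ := by group
      rw [e4, mi h (h.ZV i ha1), one_mul]
      exact mul_mem hd1 hd2
  have hxW : τ * y * τ⁻¹ ∈ W l := by rw [ex, hb'1, mul_one]; exact hw
  have hx1 : τ * y * τ⁻¹ ≠ 1 := fun e => hy1 (conj_eq_one_iff.1 e)
  have hxy : τ * y * τ⁻¹ ≠ y := fun e => hy1 (hτ1 y hyc e)
  have hWl : Nat.card (W l) = 4 := by rw [(h.blk l).card, h.cardZ l]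
  have hcW : c = W l := by
    have h7 : Nat.card ↥(c ⊓ W l) ∣ 4 := by
      rw [← hc4]
      exact Subgroup.card_dvd_of_le inf_le_left
    have h8 : 2 < Nat.card ↥(c ⊓ W l) :=
      two_lt_card (one_mem _) (mem_inf.2 ⟨hyc, ZW h l hy⟩) (mem_inf.2 ⟨hx, hxW⟩) hy1.symm hx1.symm hxy.symm
    have h9 : Nat.card ↥(c ⊓ W l) = 4 := eq_four h7 h8
    have h10 : c ⊓ W l = c := Subgroup.eq_of_le_of_card_ge inf_le_left (by rw [h9, hc4])
    have h11 : c ⊓ W l = W l := Subgroup.eq_of_le_of_card_ge inf_le_right (by rw [h9, hWl])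
    rw [← h10, h11]
  exact ⟨l, hcW, h6⟩

end base

section W

variable {G : Type u} [Group G] [Finite G] {ι : Type} [Finite ι] {S : Sylow 2 G} {V Q : Subgroup G} {n : ℕ}
  {L W Z C A : ι → Subgroup G}

theorem full_norm (hL : LnV S V Q n L W Z C A) {y z : G} (hy : y ∈ normalizer (BL (S : Subgroup G) n : Set G))
    (hz : z ∈ ZL (S : Subgroup G) n) (hf : Full C z) : Full C (y * z * y⁻¹) := by
  intro j hj
  obtain ⟨i, -, -, h1⟩ := SwapV.Lv.perm hL (inv_mem hy) j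
  have h2 := (h1 _ (norm_ZL hy hz)).2 hj
  have e : y⁻¹ * (y * z * y⁻¹) * y⁻¹⁻¹ = z := by group
  rw [e] at h2
  exact hf i h2

/-- `N_G(B)` centralises the element of full support -/
theorem cent (hL : LnV S V Q n L W Z C A) {z : G} (hz : z ∈ ZL (S : Subgroup G) n) (hf : Full C z) {s : G}
    (hs : s ∈ normalizer (BL (S : Subgroup G) n : Set G)) : s * z = z * s := by
  have h2 := full_unique hL.fr (norm_ZL hs hz) hz (full_norm hL hs hz hf) hf
  exact mul_inv_eq_iff_eq_mul.1 h2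

omit [Finite ι] in
theorem S_norm_B : (S : Subgroup G) ≤ normalizer (BL (S : Subgroup G) n : Set G) :=
  (SwapL.lb S n).two_le S.isPGroup' (SwapL.lb S n).BS

/-- **(W)** -/
theorem full_of_conj (hL : LnV S V Q n L W Z C A) {z g : G}
    (hz : z ∈ ZL (S : Subgroup G) n) (hg : g * z * g⁻¹ ∈ ZL (S : Subgroup G) n) (hf : Full C z) :
    Full C (g * z * g⁻¹) := by
  have : Fact (Nat.Prime 2) := ⟨Nat.prime_two⟩
  obtain ⟨z', hz'⟩ : ∃ z', z' = g * z * g⁻¹ := ⟨_, rfl⟩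
  rw [← hz'] at hg ⊢
  have hBz : BL (S : Subgroup G) n ≤ centralizer ({z'} : Set G) := by
    intro b hb
    rw [mem_centralizer_singleton_iff]
    exact (mem_centralizer_iff.1 hb.2 z' hg).symm
  have hSz : ((g • S : Sylow 2 G) : Subgroup G) ≤ centralizer ({z'} : Set G) := by
    rw [Sylow.coe_subgroup_smul]
    rintro _ ⟨s, hs, rfl⟩
    rw [mem_centralizer_singleton_iff]
    have h1 := cent hL hz hf (S_norm_B hs)
    change g * s * g⁻¹ * z' = z' * (g * s * g⁻¹)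
    rw [hz']
    calc g * s * g⁻¹ * (g * z * g⁻¹) = g * (s * z) * g⁻¹ := by group
      _ = g * (z * s) * g⁻¹ := by rw [h1]
      _ = _ := by group
  have hB2 : IsPGroup 2 ((BL (S : Subgroup G) n).subgroupOf (centralizer ({z'} : Set G))) :=
    (SwapL.lb S n).Bp.comap_of_injective _ (Subgroup.subtype_injective _)
  obtain ⟨R, hR⟩ := hB2.exists_le_sylow
  obtain ⟨x, hx⟩ := MulAction.exists_smul_eq (centralizer ({z'} : Set G)) ((g • S).subtype hSz) R
  have h2 : BL (S : Subgroup G) n ≤ cj ((x : G) * g) (S : Subgroup G) := by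
    intro b hb
    have h3 : (⟨b, hBz hb⟩ : centralizer ({z'} : Set G)) ∈ R := hR hb
    rw [← hx] at h3
    obtain ⟨⟨c, hc⟩, hc1, e⟩ := h3
    obtain ⟨s, hs, rfl⟩ := hc1
    refine ⟨s, hs, ?_⟩
    have e2 : (x : G) * (g * s * g⁻¹) * (x : G)⁻¹ = b := congrArg Subtype.val e
    change (x : G) * g * s * ((x : G) * g)⁻¹ = b
    rw [← e2]
    group
  have h3 : cj ((x : G) * g)⁻¹ (BL (S : Subgroup G) n) ≤ (S : Subgroup G) := by
    have := cj_mono ((x : G) * g)⁻¹ h2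
    rwa [cj_inv_cj] at this
  have h4 : ((x : G) * g)⁻¹ ∈ normalizer (BL (S : Subgroup G) n : Set G) :=
    mem_normalizer_iff_cj.2 (SwapL.wc S n (S : Subgroup G) S.isPGroup' (SwapL.lb S n).BS _ h3)
  have h5 : (x : G) * g ∈ normalizer (BL (S : Subgroup G) n : Set G) := inv_mem_iff.1 h4
  have h6 := full_norm hL h5 hz hf
  have e : (x : G) * g * z * ((x : G) * g)⁻¹ = z' := by
    have h7 := mem_centralizer_singleton_iff.1 x.2
    calc (x : G) * g * z * ((x : G) * g)⁻¹ = x * (g * z * g⁻¹) * (x : G)⁻¹ := by group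
      _ = z' := by rw [← hz', h7]; group
  rwa [e] at h6

/-- **(L)** for a line of `YB` on `Ω₁Z(lev S j)`, `j ≤ n`, without `Tr`. -/
theorem lineZ_yb (hL : LnV S V Q n L W Z C A) {j : ℕ} (hj : j ≤ n) {Λ : Type*}
    {N c : Λ → Subgroup G} (hy : YB (BL (S : Subgroup G) n) (zc (lev (S : Subgroup G) j)) N c) {l : Λ}
    (hfix : ∀ b ∈ BL (S : Subgroup G) n, Mv N c b l l) (hcV : c l ≤ V)
    (hc4 : Nat.card (c l) = 4) (hZJ : ¬ ZL (S : Subgroup G) n ≤ N l) {τ : G}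
    (hτc : ∀ x ∈ c l, τ * x * τ⁻¹ ∈ c l) (hτ1 : ∀ x ∈ c l, τ * x * τ⁻¹ = x → x = 1)
    (hτN : ∀ x ∈ N l, τ * x * τ⁻¹ = x) :
    ∃ i, c l = W i ∧ ∀ m, m ≠ i → Z m ≤ N l := by
  refine lineZ hL.fr (fun _ hz _ hg hf => full_of_conj hL hz hg hf) hcV hc4 (fun x hx => hy.fix l x ?_) (hy.triv l)
    (fun b hb x hx => ?_) (fun b hb x hx => ?_) hZJ hτc hτ1 hτN
  · exact (NO3S.Level.lev_isLev (S : Subgroup G) j).zc_le_zc (NO3S.Level.lev_mono _ hj) (NO3S.Level.lev_le _ n) hx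
  · have h1 := (hfix b hb).2
    have h2 : b * x * b⁻¹ ∈ cj b (c l) := ⟨x, hx, rfl⟩
    rwa [h1] at h2
  · have h1 := (hfix b hb).1
    have h2 : b * x * b⁻¹ ∈ cj b (N l) := ⟨x, hx, rfl⟩
    rwa [h1] at h2

/-- **(L)** for a line of `YB` on `Ω₁Z(lev S j)`, `j ≤ n`, with `Tr`. -/
theorem line_yb (hL : LnV S V Q n L W Z C A) (htr : Tr W Z C) {j : ℕ} (hj : j ≤ n) {Λ : Type*}
    {N c : Λ → Subgroup G} (hy : YB (BL (S : Subgroup G) n) (zc (lev (S : Subgroup G) j)) N c) {l : Λ}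
    (hfix : ∀ b ∈ BL (S : Subgroup G) n, Mv N c b l l) (hcV : c l ≤ V)
    (hc4 : Nat.card (c l) = 4) (hZJ : ¬ ZL (S : Subgroup G) n ≤ N l) {τ : G}
    (hτc : ∀ x ∈ c l, τ * x * τ⁻¹ ∈ c l) (hτ1 : ∀ x ∈ c l, τ * x * τ⁻¹ = x → x = 1)
    (hτN : ∀ x ∈ N l, τ * x * τ⁻¹ = x) :
    ∃ i, c l = W i ∧ (∀ m, m ≠ i → W m ≤ N l) ∧ ∀ m, m ≠ i → Z m ≤ N l := by
  refine line hL.fr htr (fun _ hz _ hg hf => full_of_conj hL hz hg hf) hcV hc4 (fun x hx => hy.fix l x ?_) (hy.triv l)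
    (fun b hb x hx => ?_) (fun b hb x hx => ?_) hZJ hτc hτ1 hτN
  · exact (NO3S.Level.lev_isLev (S : Subgroup G) j).zc_le_zc (NO3S.Level.lev_mono _ hj) (NO3S.Level.lev_le _ n) hx
  · have h1 := (hfix b hb).2
    have h2 : b * x * b⁻¹ ∈ cj b (c l) := ⟨x, hx, rfl⟩
    rwa [h1] at h2
  · have h1 := (hfix b hb).1
    have h2 : b * x * b⁻¹ ∈ cj b (N l) := ⟨x, hx, rfl⟩
    rwa [h1] at h2

end W

end Cfsg.Agent.Omega.OM.LowV

end

section


/-!
# TORUS, `T = B`, `q = 2`: the block of a parabolic `R` of lower stage over `B = C_S(Ω₁Z(lev S (n+1)))`, over `LnV`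

`R` is a minimal parabolic over `B` of characteristic 2 which moves `Ω₁Z(B)`, `lev S n ≰ O₂(R)`.

* `Blk S P n L W Z C A R j K N₁ c τ l` : `R` has one block `K`, of natural type over `𝔽₄`, and its torus line is `c = W l`;
  `K` centralises all `Z m`, `m ≠ l` (all `W m`, if `Tr W Z C`);
* `exists_blk` : it exists.
-/

set_option autoImplicit false
set_option linter.unusedSectionVars false

namespace Cfsg.Agent.Omega.OM.LowV

open Subgroup Cfsg Cfsg.Agent.ZN.ChoiceBase Cfsg.Agent.ZN.ChoiceSit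
open Cfsg.Agent.ZN (jj zj bau zc zl o2)
open Cfsg.Agent.MinSimple.MinParabolic (IsMinPar)
open Cfsg.Agent.Omega.NO3S.OneLine (NatC natC_of)
open Cfsg.Agent.Omega.OM.Lev.Nat (Wn mem_Wn)
open Cfsg.Agent.Omega.OM.GLev
open Cfsg.Agent.Omega.FFThm (NatKM SymKM)
open Cfsg.Agent.Omega.FrameFF (cv)
open Cfsg.Agent.Omega.OM.SwapL (ZL BL)
open Cfsg.Agent.Omega.OM.SwapV.Lv (LnV)
open Cfsg.Agent.Omega.OM.Lev.Low
open Cfsg.Agent.Omega.NO3S.Level (lev lev_mono lev_isLev Lev lev_le)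
open Cfsg.Agent.Omega.OM.Lev.Low
open Cfsg.Agent.Omega.OM.Lev.Low.Core (exists_all)
open Cfsg.Agent.Omega.OM.Lev.Low.Line (Tr fix_all)
open scoped commutatorElement

universe u

variable {G : Type u} [Group G] [Finite G]

/-- **The block of `R`.** -/
structure Blk {ι : Type} (S : Sylow 2 G) (V Q : Subgroup G) (n : ℕ) (L W Z C A : ι → Subgroup G) (R : Subgroup G)
    (j : ℕ) (K N₁ c : Subgroup G) (τ : G) (l : ι) : Prop where
  ln : LnV S V Q n L W Z C A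
  jn : j ≤ n
  syl : Syl (BL (S : Subgroup G) n) R
  min : IsMinPar (BL (S : Subgroup G) n) R
  char2 : R ⊓ centralizer (o2 R : Set G) ≤ o2 R
  low : ∀ i < j, lev (S : Subgroup G) i ≤ o2 R
  nlow : ¬ lev (S : Subgroup G) j ≤ o2 R
  mv : ¬ R ≤ centralizer (zc (BL (S : Subgroup G) n) : Set G)
  B0K : LevB.BL (S : Subgroup G) j ≤ K
  KR : K ≤ R
  pb : PB (LevB.BL (S : Subgroup G) j) K (zl (BL (S : Subgroup G) n) R) N₁ (cv (BL (S : Subgroup G) n) R) 4
  RK : R ≤ BL (S : Subgroup G) n ⊔ K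
  nK : BL (S : Subgroup G) n ≤ normalizer ((⁅zl (BL (S : Subgroup G) n) R, K⁆ : Subgroup G) : Set G)
  yb : YB (BL (S : Subgroup G) n) (zc (lev (S : Subgroup G) j))
    (fun _ : Fin 1 => zc (lev (S : Subgroup G) j) ⊓ centralizer (K : Set G)) (fun _ => c)
  cN1 : c ≤ N₁
  N1c : N₁ ≤ c ⊔ cv (BL (S : Subgroup G) n) R
  cD : c ⊓ cv (BL (S : Subgroup G) n) R = ⊥
  c4 : Nat.card c = 4
  τK : τ ∈ K
  τB0 : τ ∈ normalizer (LevB.BL (S : Subgroup G) j : Set G)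
  τc : cj τ c = c
  τ1 : ∀ x ∈ c, τ * x * τ⁻¹ = x → x = 1
  τD : ∀ v ∈ zl (BL (S : Subgroup G) n) R, τ * v * τ⁻¹ * v⁻¹ ∈ cv (BL (S : Subgroup G) n) R →
    v ∈ cv (BL (S : Subgroup G) n) R
  cc : c ≤ ⁅⁅zl (BL (S : Subgroup G) n) R, K⁆, LevB.BL (S : Subgroup G) j⁆
  line : ∀ y ∈ R, ∀ v ∈ N₁, v ∉ cv (BL (S : Subgroup G) n) R → y * v * y⁻¹ ∈ N₁ → cj y N₁ = N₁
  act : ∀ t ∈ BL (S : Subgroup G) n, ∀ k ∈ K, ∃ k' ∈ K, ∀ v ∈ zl (BL (S : Subgroup G) n) R,
    t * k * t⁻¹ * v * (t * k * t⁻¹)⁻¹ = k' * v * k'⁻¹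
  /-- `B` normalises `c` and `C_X(K)` -/
  fix : ∀ b ∈ BL (S : Subgroup G) n, cj b (zc (lev (S : Subgroup G) j) ⊓ centralizer (K : Set G)) =
    zc (lev (S : Subgroup G) j) ⊓ centralizer (K : Set G) ∧ cj b c = c
  /-- (L) -/
  cW : c = W l
  ZK : ∀ m, m ≠ l → Z m ≤ centralizer (K : Set G)

/-- **The block of `R` exists.** -/
theorem exists_blk {ι : Type} [Finite ι] {S : Sylow 2 G} {V Q : Subgroup G} {n : ℕ}
    {L W Z C A : ι → Subgroup G} (hln : LnV S V Q n L W Z C A)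
    (two : ∀ i : ι, ∃ j, j ≠ i) [Nonempty ι] {R : Subgroup G}
    (hP : IsMinPar (BL (S : Subgroup G) n) R) (hT : Syl (BL (S : Subgroup G) n) R)
    (hc : R ⊓ centralizer (o2 R : Set G) ≤ o2 R) (hn : ¬ lev (S : Subgroup G) n ≤ o2 R)
    (hZ : ¬ R ≤ centralizer (zc (BL (S : Subgroup G) n) : Set G)) :
    ∃ (j : ℕ) (K N₁ c : Subgroup G) (τ : G) (l : ι), Blk S V Q n L W Z C A R j K N₁ c τ l ∧
      (Tr W Z C → ∀ m, m ≠ l → W m ≤ centralizer (K : Set G)) := by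
  obtain ⟨j, hj, hlow, hnj⟩ := exists_stg (S : Subgroup G) hn
  obtain ⟨X, AA', hge, hbz, hex, F, _, _, _, k, hk, N, K, Nn, c, hout⟩ :=
    exists_out hln two hT le_rfl hP hc hZ hj hlow hnj
  have hyb := hout.inp.yk.yb
  -- `T = B` fixes all lines
  have hlin := fun l => lin_V hln hT.2.1 le_rfl hj hyb hout.inp.yk.tr
    (sub_of_co hge.hm N hk hout.nb.co hyb) ⟨⟨0, hk⟩, hout.zT _⟩ hout.wide l
  have hfix := fix_all hln.fr hyb (fun q hq l => (hlin l).1 q hq) (fun l => (hlin l).2.2)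
    fun l => by rw [(hlin l).2.1]; norm_num
  have hk1 : k = 1 := by
    have key : ∀ i : Fin k, i = ⟨0, hk⟩ := by
      intro i
      obtain ⟨t, ht, hm⟩ := hout.inp.yk.tr ⟨0, hk⟩ i
      exact hyb.uniq hm (hfix t ht _)
    have h2 : Fintype.card (Fin k) = 1 := Fintype.card_eq_one_iff.2 ⟨_, key⟩
    rwa [Fintype.card_fin] at h2
  have hF : Nat.card F = 4 := by
    rw [← hout.nb.co.card ⟨0, hk⟩]
    exact (hlin _).2.1
  subst hk1
  clear hfix hlin hyb hout K Nn c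
  -- the block
  obtain ⟨K, N₁, c, τ, h1, h2, h3, h4, h5, h6, h7, h8, h9, h10, h11, h12, h13, h14, h15, h16, h17, h18, h19⟩ :=
    exists_all hge hbz N hex (by rw [hF]; norm_num)
  rw [hF] at h3 h10
  have hyk : YK (BL (S : Subgroup G) n) R (zc (lev (S : Subgroup G) j)) (LevB.BL (S : Subgroup G) j)
      (fun _ : Fin 1 => K) (fun _ => zl (BL (S : Subgroup G) n) R)
      (fun _ => zc (lev (S : Subgroup G) j) ⊓ centralizer (K : Set G)) (fun _ => c) :=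
    { yb := h6
      pb := fun _ => ⟨_, _, _, h3⟩
      KY := fun _ => h2
      EY := fun _ => le_rfl
      memN := fun _ x hx => by
        rw [mem_inf, mem_centralizer_iff]
        exact ⟨fun h => h.2, fun h => ⟨hx, h⟩⟩
      mv := fun t ht _ _ _ => cj_eq_of_mem_normalizer (h5 ht)
      line := fun _ => h16.trans (commutator_mono (by
        rw [Subgroup.commutator_le]
        intro v hv k hk
        have hkV := (mem_normalizer_iff.1 (h3.LN hk) v⁻¹).1 (inv_mem hv)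
        have e : ⁅v, k⁆ = v * (k * v⁻¹ * k⁻¹) := by rw [commutatorElement_def]; group
        rw [e]
        exact mul_mem hv hkV) le_rfl)
      cross := fun l m hlm => absurd (Subsingleton.elim l m) hlm
      tr := fun l m => ⟨1, one_mem _, by rw [Subsingleton.elim l m]; exact Mv.one _⟩
      sup := fun _ => h4 }
  have hin : Inp S V Q n L W Z C A (BL (S : Subgroup G) n) R j (fun _ : Fin 1 => K)
      (fun _ => zl (BL (S : Subgroup G) n) R) (fun _ => zc (lev (S : Subgroup G) j) ⊓ centralizer (K : Set G))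
      (fun _ => c) := ⟨hln, two, hT, le_rfl, hj, hc, hlow, hyk⟩
  have hzT : ¬ zc (BL (S : Subgroup G) n) ≤ zc (lev (S : Subgroup G) j) ⊓ centralizer (K : Set G) := by
    intro hle
    refine hZ (h4.trans (sup_le (NO3S.Level.le_centralizer_zc _) ?_))
    exact le_centralizer_iff.1 (hle.trans inf_le_right)
  have hlin := fun l => lin_V hln hT.2.1 le_rfl hj h6 hyk.tr
    (sub_of_co hge.hm N one_pos h19 h6) ⟨0, hzT⟩ (fun l => hin.wide ⟨0, hzT⟩ l) l
  have hfix := fix_all hln.fr h6 (fun q hq l => (hlin l).1 q hq) (fun l => (hlin l).2.2)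
    fun l => by rw [(hlin l).2.1]; norm_num
  have hτX : ∀ x ∈ c, τ * x * τ⁻¹ ∈ c := fun x hx => by
    have h20 : τ * x * τ⁻¹ ∈ cj τ c := ⟨x, hx, rfl⟩
    rwa [h13] at h20
  have hZJ : ¬ ZL (S : Subgroup G) n ≤ zc (lev (S : Subgroup G) j) ⊓ centralizer (K : Set G) := fun h =>
    hzT ((zc_T_le S hT.2.1 le_rfl).trans h)
  obtain ⟨l, hcl, hW⟩ := lineZ_yb hln hj h6 (l := 0) (fun b hb => hfix b hb 0) (hlin 0).2.2 h10 hZJ hτX h14
    (fun x hx => by
      have h20 := mem_centralizer_iff.1 (mem_inf.1 hx).2 τ h11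
      rw [h20]; group)
  refine ⟨j, K, N₁, c, τ, l, ⟨hln, hj, hT, hP, hc, hlow, hnj, hZ, h1, h2, h3, h4, h5, h6, h7, h8, h9, h10, h11,
    h12, h13, h14, h15, h16, h17, h18, fun b hb => hfix b hb 0, hcl, fun m hm => (hW m hm).trans inf_le_right⟩,
    fun htr m hm => ?_⟩
  obtain ⟨l', hcl', hW', -⟩ := line_yb hln htr hj h6 (l := 0) (fun b hb => hfix b hb 0) (hlin 0).2.2 h10 hZJ hτX h14
    (fun x hx => by
      have h20 := mem_centralizer_iff.1 (mem_inf.1 hx).2 τ h11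
      rw [h20]; group)
  have hll : l' = l := by
    by_contra hne
    obtain ⟨z, hz, hz1⟩ := SwapV.Lv.Z_ne hln l
    have h21 : z ∈ W l ⊓ C l := by
      refine mem_inf.2 ⟨SwapV.Lv.Z_W hln l hz, hln.fr.WjC l l' (Ne.symm hne) ?_⟩
      rw [← hcl', hcl]
      exact SwapV.Lv.Z_W hln l hz
    rw [hln.fr.dir l, mem_bot] at h21
    exact hz1 h21
  subst hll
  exact (hW' m hm).trans inf_le_right

end Cfsg.Agent.Omega.OM.LowV

end

section


/-!
# TORUS over the frame `LnV`: weak form of UNI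

* `weak_of` : a minimal parabolic `R` over `B` of lower stage which moves `Ω₁Z(B)` moves exactly one `Z l`, and some
  `r ∈ R` moves `Z l` to a subgroup of `W l`, not in `Z_J`;
* `exists_weak` : the same without the block.
-/

set_option autoImplicit false
set_option linter.unusedSectionVars false

namespace Cfsg.Agent.Omega.OM.LowV

open Subgroup Cfsg Cfsg.Agent.ZN.ChoiceBase Cfsg.Agent.ZN.ChoiceSit
open Cfsg.Agent.ZN (jj zj bau zc zl o2)
open Cfsg.Agent.MinSimple.MinParabolic (IsMinPar)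
open Cfsg.Agent.Omega.OM.SwapL (ZL BL)
open Cfsg.Agent.Omega.OM.SwapV.Lv (LnV)
open Cfsg.Agent.Omega.NO3S.Level (lev lev_mono lev_isLev Lev lev_le)
open Cfsg.Agent.Omega.OM.Lev.Low

universe u

variable {G : Type u} [Group G] [Finite G]

section bk

variable {ι : Type} {S : Sylow 2 G} {V Q : Subgroup G} {n : ℕ} {L W Z C A : ι → Subgroup G} {R : Subgroup G}
  {j : ℕ} {K N₁ c : Subgroup G} {τ : G} {l : ι}

/-- `W l ∩ Z_J ≤ Z l` -/
theorem W_inf_ZJ (h : LnV S V Q n L W Z C A) {x : G} (hx : x ∈ W l) (hxJ : x ∈ ZL (S : Subgroup G) n) : x ∈ Z l := by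
  obtain ⟨w, hw, c', hc', -, e⟩ := h.fr.split_ZJ l hxJ
  have h1 : c' ∈ W l ⊓ C l := by
    refine mem_inf.2 ⟨?_, hc'⟩
    have e1 : c' = w⁻¹ * x := by rw [e]; group
    rw [e1]
    exact mul_mem (inv_mem (SwapV.Lv.Z_W h l hw)) hx
  rw [h.fr.dir l, mem_bot] at h1
  rw [e, h1, mul_one]
  exact hw

theorem weak_of (h : Blk S V Q n L W Z C A R j K N₁ c τ l) :
    (∃ r ∈ R, cj r (Z l) ≤ W l ⊓ centralizer (LevB.BL (S : Subgroup G) j : Set G) ∧
      ¬ cj r (Z l) ≤ ZL (S : Subgroup G) n) ∧ ∀ m, m ≠ l → R ≤ centralizer (Z m : Set G) := by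
  have hZc : Z l ≤ c := h.cW ▸ SwapV.Lv.Z_W h.ln l
  have hcX : c ≤ zc (lev (S : Subgroup G) j) := h.yb.cX 0
  refine ⟨⟨τ, h.KR h.τK, ?_, fun hle => ?_⟩, fun m hm => ?_⟩
  · have h1 := cj_mono τ hZc
    rw [h.τc] at h1
    refine le_inf (h1.trans h.cW.le) (h1.trans (hcX.trans ?_))
    rw [← le_centralizer_iff]
    exact (LevB.lb S j).Bc
  · obtain ⟨z, hz, hz1⟩ := SwapV.Lv.Z_ne h.ln l
    have h1 : τ * z * τ⁻¹ ∈ ZL (S : Subgroup G) n := hle ⟨z, hz, rfl⟩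
    have h2 : τ * z * τ⁻¹ ∈ c := by
      rw [← h.τc]
      exact ⟨z, hZc hz, rfl⟩
    have h3 := W_inf_ZJ h.ln (h.cW ▸ h2) h1
    have h4 := SwapV.Lv.Z_eq h.ln h3 hz (fun e => hz1 (conj_eq_one_iff.1 e)) hz1
    exact hz1 (h.τ1 z (hZc hz) h4)
  · refine h.RK.trans (sup_le ?_ (le_centralizer_iff.1 (h.ZK m hm)))
    intro b hb
    rw [mem_centralizer_iff]
    intro z hz
    exact (mem_centralizer_iff.1 hb.2 z (h.ln.fr.Z_le m hz))

end bk

/-- **Weak UNI.** -/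
theorem exists_weak {ι : Type} [Finite ι] [Nonempty ι] {S : Sylow 2 G} {V Q : Subgroup G} {n : ℕ}
    {L W Z C A : ι → Subgroup G} (h : LnV S V Q n L W Z C A) (two : ∀ i : ι, ∃ j, j ≠ i)
    {R : Subgroup G} (hP : IsMinPar (BL (S : Subgroup G) n) R) (hT : Syl (BL (S : Subgroup G) n) R)
    (hc : R ⊓ centralizer (o2 R : Set G) ≤ o2 R) (hn : ¬ lev (S : Subgroup G) n ≤ o2 R)
    (hZ : ¬ R ≤ centralizer (zc (BL (S : Subgroup G) n) : Set G)) :
    ∃ i, (∃ r ∈ R, cj r (Z i) ≤ W i ⊔ ZL (S : Subgroup G) n ∧ ¬ cj r (Z i) ≤ ZL (S : Subgroup G) n) ∧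
      ∀ m, m ≠ i → R ≤ centralizer (Z m : Set G) := by
  obtain ⟨j, K, N₁, c, τ, l, hb, -⟩ := exists_blk h two hP hT hc hn hZ
  obtain ⟨⟨r, hr, h1, h2⟩, h3⟩ := weak_of hb
  exact ⟨l, ⟨r, hr, (h1.trans inf_le_left).trans le_sup_left, h2⟩, h3⟩

end Cfsg.Agent.Omega.OM.LowV

end

section


/-!
# THEOREM U over `B = BL S n`, weak `par`: the minimal parabolics of smaller stage

* `LowW S n Z W` : every `R ∈ P(B)`, `R ≤ C_G(Z l)` for some `l`, of stage `< n` which moves `Ω₁Z(B)` fuses the elements of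
  some `(W i)#` and centralises `Z p`, `p ≠ i`;
* `lowW_of` : `LnV` gives `LowW` (helper646's torus block).
-/

set_option autoImplicit false
set_option linter.unusedSectionVars false

namespace Cfsg.Agent.Omega.EDel.BxW

open Subgroup Cfsg Cfsg.Agent.ZN.ChoiceBase
open Cfsg.Agent.ZN (zc zl o2)
open Cfsg.Agent.ZN.ChoiceSit (Syl)
open Cfsg.Agent.Omega.OM
open Cfsg.Agent.Omega.OM.SwapL (ZL BL)
open Cfsg.Agent.Omega.OM.SwapV.Lv (LnV)
open Cfsg.Agent.Omega.NO3S.Level (lev)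
open Cfsg.Agent.MinSimple.MinParabolic (IsMinPar)

universe u

variable {G : Type u} [Group G] [Finite G]

/-- **The minimal parabolics of smaller stage over `B` inside a `C_G(Z l)` fuse `(W i)#`.** -/
def LowW (S : Sylow 2 G) (n : ℕ) {ι : Type} (Z W : ι → Subgroup G) : Prop :=
  ∀ R : Subgroup G, (∃ l, R ≤ centralizer (Z l : Set G)) → IsMinPar (BL (S : Subgroup G) n) R →
    Syl (BL (S : Subgroup G) n) R → R ⊓ centralizer (o2 R : Set G) ≤ o2 R →
    ¬ R ≤ centralizer (zc (BL (S : Subgroup G) n) : Set G) → ¬ lev (S : Subgroup G) n ≤ o2 R →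
    ∃ i, (∀ x ∈ W i, x ≠ 1 → ∃ r ∈ R, ∃ w ∈ Z i, r * w * r⁻¹ = x) ∧ ∀ p, p ≠ i → R ≤ centralizer (Z p : Set G)

/-- a fixed-point-free automorphism of a group of order 4 is transitive -/
theorem trans_four {c : Subgroup G} (h4 : Nat.card c = 4) {τ : G} (hτ : cj τ c = c)
    (h1 : ∀ x ∈ c, τ * x * τ⁻¹ = x → x = 1) {w x : G} (hw : w ∈ c) (hw1 : w ≠ 1) (hx : x ∈ c) (hx1 : x ≠ 1) :
    x = w ∨ x = τ * w * τ⁻¹ ∨ x = τ * (τ * w * τ⁻¹) * τ⁻¹ := by
  classical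
  have hmem : ∀ y ∈ c, τ * y * τ⁻¹ ∈ c := fun y hy => by
    rw [← hτ]
    exact ⟨y, hy, rfl⟩
  have hne : ∀ y : G, y ≠ 1 → τ * y * τ⁻¹ ≠ 1 := fun y hy h => hy (by simpa using h)
  set a : G := τ * w * τ⁻¹ with ha
  set b : G := τ * a * τ⁻¹ with hb
  have hac : a ∈ c := hmem w hw
  have hbc : b ∈ c := hmem a hac
  have ha1 : a ≠ 1 := hne w hw1
  have hb1 : b ≠ 1 := hne a ha1
  have haw : a ≠ w := fun h => hw1 (h1 w hw (by rw [← ha]; exact h))
  have hba : b ≠ a := fun h => ha1 (h1 a hac (by rw [← hb]; exact h))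
  by_contra hcon
  push Not at hcon
  obtain ⟨hxw, hxa, hxb⟩ := hcon
  -- four elements
  have hcard : ({1, w, a, x} : Finset G).card = 4 := by
    rw [Finset.card_insert_of_notMem, Finset.card_insert_of_notMem, Finset.card_insert_of_notMem,
      Finset.card_singleton]
    · simpa using fun h => hxa h.symm
    · simp only [Finset.mem_insert, Finset.mem_singleton, not_or]
      exact ⟨fun h => haw h.symm, fun h => hxw h.symm⟩
    · simp only [Finset.mem_insert, Finset.mem_singleton, not_or]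
      exact ⟨fun h => hw1 h.symm, fun h => ha1 h.symm, fun h => hx1 h.symm⟩
  have hsub : (({1, w, a, x} : Finset G) : Set G) ⊆ (c : Set G) := by
    intro y hy
    simp only [Finset.coe_insert, Finset.coe_singleton, Set.mem_insert_iff, Set.mem_singleton_iff] at hy
    rcases hy with rfl | rfl | rfl | rfl
    · exact one_mem _
    · exact hw
    · exact hac
    · exact hx
  have heq : (({1, w, a, x} : Finset G) : Set G) = (c : Set G) := by
    refine Set.eq_of_subset_of_ncard_le hsub ?_ (Set.toFinite _)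
    rw [Set.ncard_coe_finset, hcard]
    exact h4.le
  have hb' : b ∈ ({1, w, a, x} : Finset G) := by
    have : b ∈ (c : Set G) := hbc
    rw [← heq] at this
    exact_mod_cast this
  simp only [Finset.mem_insert, Finset.mem_singleton] at hb'
  rcases hb' with h | h | h | h
  · exact hb1 h
  · -- `b = w` : then `x` is fixed
    have hx' : τ * x * τ⁻¹ ∈ ({1, w, a, x} : Finset G) := by
      have : τ * x * τ⁻¹ ∈ (c : Set G) := hmem x hx
      rw [← heq] at this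
      exact_mod_cast this
    simp only [Finset.mem_insert, Finset.mem_singleton] at hx'
    have inj : ∀ {y z : G}, τ * y * τ⁻¹ = τ * z * τ⁻¹ → y = z := fun h => by
      have := congrArg (fun t => τ⁻¹ * t * τ) h
      simpa [mul_assoc] using this
    rcases hx' with h' | h' | h' | h'
    · exact hne x hx1 h'
    · exact hxa (inj (h'.trans (h.symm.trans hb)))
    · exact hxw (inj (h'.trans ha))
    · exact hx1 (h1 x hx h')
  · exact hba h
  · exact hxb h.symm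

/-- **`LnV` gives `LowW`.** -/
theorem lowW_of {ι : Type} [Finite ι] [Nonempty ι] {S : Sylow 2 G} {V Q : Subgroup G} {n : ℕ}
    {L W Z C A : ι → Subgroup G} (h : LnV S V Q n L W Z C A) (two : ∀ i : ι, ∃ j, j ≠ i) : LowW S n Z W := by
  rintro R - hR hT hc hZ hn
  obtain ⟨j, K, N₁, c, τ, l, hb, -⟩ := LowV.exists_blk h two hR hT hc hn hZ
  have hcW := hb.cW
  subst hcW
  obtain ⟨w, hw, hw1⟩ := SwapV.Lv.Z_ne h l
  have hwW : w ∈ W l := SwapV.Lv.Z_W h l hw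
  have hτR : τ ∈ R := hb.KR hb.τK
  refine ⟨l, fun x hx hx1 => ?_, fun p hp => ?_⟩
  · rcases trans_four hb.c4 hb.τc hb.τ1 hwW hw1 hx hx1 with rfl | rfl | rfl
    · exact ⟨1, one_mem _, x, hw, by simp⟩
    · exact ⟨τ, hτR, w, hw, rfl⟩
    · exact ⟨τ * τ, mul_mem hτR hτR, w, hw, by group⟩
  · refine hb.RK.trans (sup_le ?_ (le_centralizer_iff.1 (hb.ZK p hp)))
    exact (SwapL.lb S n).Bc.trans (centralizer_le (h.fr.Z_le p))

end Cfsg.Agent.Omega.EDel.BxW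

end

end
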